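import Cfsg.Agent.H802.FusNorm
set_option linter.all false

/-!
# Alperin's fusion theorem, generic and centric versions (helper802)
-/

set_option autoImplicit false

namespace Cfsg.Agent.H802

open Cfsg Cfsg.FusionSystem

variable {Ω : Type*} [Group Ω] {S : Subgroup Ω}

/-- In a finite `p`-group `S`, a proper subgroup is properly contained in its normalizer. -/
theorem card_lt_card_normalizerIn {p : ℕ} [Fact p.Prime] [Finite S] (hS : IsPGroup p S)
    {P : Subgroup Ω} (hP : P ≤ S) (hne : P ≠ S) :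
    Nat.card P < Nat.card (normalizerIn S P) := by
  have hfin : Finite (normalizerIn S P) := finite_of_le inf_le_left
  have hle : P ≤ normalizerIn S P := le_normalizerIn hP
  have hlt : P < normalizerIn S P := by
    refine lt_of_le_of_ne hle fun heq => ?_
    have hnil : Group.IsNilpotent S := hS.isNilpotent
    have hNC : NormalizerCondition S := Group.normalizerCondition_of_isNilpotent
    have hproper : P.subgroupOf S < ⊤ := by
      rw [lt_top_iff_ne_top]
      intro h
      exact hne (le_antisymm hP (Subgroup.subgroupOf_eq_top.1 h))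
    obtain ⟨x, hx1, hx2⟩ := SetLike.exists_of_lt (hNC _ hproper)
    refine hx2 (Subgroup.mem_subgroupOf.2 ?_)
    rw [heq]
    refine ⟨x.2, Subgroup.mem_normalizer_iff.2 fun z => ?_⟩
    constructor
    · intro hz
      have := (Subgroup.mem_normalizer_iff.1 hx1 ⟨z, hP hz⟩).1 (Subgroup.mem_subgroupOf.2 hz)
      exact Subgroup.mem_subgroupOf.1 this
    · intro hz
      have hzS : z ∈ S := by
        have h1 : (x : Ω)⁻¹ * ((x : Ω) * z * (x : Ω)⁻¹) * (x : Ω) ∈ S :=
          S.mul_mem (S.mul_mem (S.inv_mem x.2) (hP hz)) x.2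
        have h2 : (x : Ω)⁻¹ * ((x : Ω) * z * (x : Ω)⁻¹) * (x : Ω) = z := by group
        rwa [h2] at h1
      have := (Subgroup.mem_normalizer_iff.1 hx1 ⟨z, hzS⟩).2 (Subgroup.mem_subgroupOf.2 hz)
      exact Subgroup.mem_subgroupOf.1 this
  refine lt_of_le_of_ne (Nat.card_mono (Set.toFinite _) hle) fun heq => ?_
  exact hlt.ne (Subgroup.eq_of_le_of_card_ge hle heq.ge)

theorem eq_of_le_card_eq [Finite S] {P : Subgroup Ω} (hP : P ≤ S) (h : Nat.card P = Nat.card S) :
    P = S := Subgroup.eq_of_le_of_card_ge hP h.ge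

/-- **Generic form of Alperin's fusion theorem.** Let `F` be saturated over `S` and `F'` any fusion system
over `S`. Suppose that, for every fully normalized `Q` such that all maps of `F` with larger source are maps
of `F'`, the group `Aut_F(Q)` is contained in `Aut_{F'}(Q)`. Then every map of `F` is a map of `F'`. -/
theorem le_of_autGroup_le {p : ℕ} [Fact p.Prime] [Finite S] (hS : IsPGroup p S)
    {F : FusionSystem S} (hF : F.IsSaturated p) (F' : FusionSystem S)
    (h : ∀ Q : Subgroup Ω, F.IsFullyNormalized Q →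
      (∀ R : Subgroup Ω, Nat.card Q < Nat.card R → F.Hom R ⊆ F'.Hom R) →
      F.autGroup Q ≤ F'.autGroup Q) (P : Subgroup Ω) : F.Hom P ⊆ F'.Hom P := by
  -- downward induction on the order of `P`
  have main : ∀ n : ℕ, ∀ P : Subgroup Ω, Nat.card S - Nat.card P = n → F.Hom P ⊆ F'.Hom P := by
    intro n
    induction n using Nat.strong_induction_on with
    | _ n ih =>
    intro P hn φ hφ
    have hPS : P ≤ S := hom_le hφ
    have hPcard : Nat.card P ≤ Nat.card S := Nat.card_mono (Set.toFinite (S : Set Ω)) hPS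
    have IH : ∀ R : Subgroup Ω, Nat.card P < Nat.card R → F.Hom R ⊆ F'.Hom R := by
      intro R hR ψ hψ
      have hRcard : Nat.card R ≤ Nat.card S :=
        Nat.card_mono (Set.toFinite (S : Set Ω)) (hom_le hψ)
      exact ih _ (by omega) R rfl hψ
    obtain ⟨Q, hPQ, hQ⟩ := exists_isFullyNormalized hS hF hPS
    have hcardQ : Nat.card P = Nat.card Q := isConj_card_eq hPQ
    have hAut := h Q hQ (fun R hR => IH R (by omega))
    have hQS : Q ≤ S := hQ.1
    by_cases hPeq : P = S
    · -- top case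
      subst hPeq
      have hfinP : Finite P := ‹_›
      have hQP : Q = P := Subgroup.eq_of_le_of_card_ge hQS hcardQ.le
      subst hQP
      have hr : φ.range = Q := range_eq_of_mapsTo hφ (fun x => hom_apply_mem hφ x)
      obtain ⟨α, hα, hαe⟩ := exists_aut hφ hr
      exact aut_restrict_mem hQS (hAut hα) le_rfl (fun x hx => (hαe ⟨x, hx⟩).symm)
    · -- general case
      obtain ⟨α, hα, hαr⟩ := hPQ
      set P₁ := φ.range with hP₁
      have hP₁S : P₁ ≤ S := range_le_of_mem hφ
      have hcard1 : Nat.card P = Nat.card P₁ := isConj_card_eq (isConj_range hφ)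
      have hP₁ne : P₁ ≠ S := by
        intro heq
        apply hPeq
        apply Subgroup.eq_of_le_of_card_ge hPS
        rw [hcard1, heq]
      obtain ⟨γ, hγ, hγr⟩ := isConj_trans (isConj_symm (isConj_range hφ)) ⟨α, hα, hαr⟩
      -- modify α and γ
      obtain ⟨β₁, hβ₁, ψ₁, hψ₁, he₁, -⟩ := exists_extension_normalizer hS hF hα hαr hQ
      obtain ⟨β₂, hβ₂, ψ₂, hψ₂, he₂, -⟩ := exists_extension_normalizer hS hF hγ hγr hQ
      have hψ₁' : ψ₁ ∈ F'.Hom (normalizerIn S P) :=
        IH _ (card_lt_card_normalizerIn hS hPS hPeq) hψ₁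
      have hψ₂' : ψ₂ ∈ F'.Hom (normalizerIn S P₁) :=
        IH _ (hcard1 ▸ card_lt_card_normalizerIn hS hP₁S hP₁ne) hψ₂
      have hαm : ∀ x : P, α x ∈ Q := fun x => by rw [← hαr]; exact ⟨x, rfl⟩
      have hγm : ∀ x : P₁, γ x ∈ Q := fun x => by rw [← hγr]; exact ⟨x, rfl⟩
      -- restrictions of ψ₁, ψ₂
      set a : P →* Ω := ψ₁.comp (Subgroup.inclusion (le_normalizerIn hPS)) with ha
      set c : P₁ →* Ω := ψ₂.comp (Subgroup.inclusion (le_normalizerIn hP₁S)) with hc
      have haF : a ∈ F.Hom P := restrict_mem hψ₁ _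
      have haF' : a ∈ F'.Hom P := restrict_mem hψ₁' _
      have hcF : c ∈ F.Hom P₁ := restrict_mem hψ₂ _
      have hcF' : c ∈ F'.Hom P₁ := restrict_mem hψ₂' _
      have hax : ∀ x : P, a x = (β₁ ⟨α x, hαm x⟩ : Q) := fun x => he₁ x (hαm x) _
      have hcx : ∀ x : P₁, c x = (β₂ ⟨γ x, hγm x⟩ : Q) := fun x => he₂ x (hγm x) _
      have hfinP : Finite P := finite_of_le hPS
      have hfinQ : Finite Q := finite_of_le hQS
      have har : a.range = Q := by
        have hle : a.range ≤ Q := by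
          rintro _ ⟨x, rfl⟩
          rw [hax]
          exact (β₁ _).2
        refine Subgroup.eq_of_le_of_card_ge hle ?_
        rw [← isConj_card_eq (isConj_range haF), hcardQ]
      have hcr : c.range = Q := by
        have hle : c.range ≤ Q := by
          rintro _ ⟨x, rfl⟩
          rw [hcx]
          exact (β₂ _).2
        refine Subgroup.eq_of_le_of_card_ge hle ?_
        rw [← isConj_card_eq (isConj_range hcF), ← hcard1, hcardQ]
      -- θ = c φ a⁻¹
      obtain ⟨ai, hai, hair, hai1, hai2⟩ := exists_inv haF har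
      obtain ⟨ci, hci, hcir, hci1, hci2⟩ := exists_inv hcF' hcr
      have haim : ∀ y : Q, ai y ∈ P := fun y => by rw [← hair]; exact ⟨y, rfl⟩
      obtain ⟨t₁, ht₁, ht₁e⟩ := exists_comp hai hφ haim
      have ht₁m : ∀ y : Q, t₁ y ∈ P₁ := fun y => by
        rw [ht₁e]
        exact ⟨_, rfl⟩
      obtain ⟨t₂, ht₂, ht₂e⟩ := exists_comp ht₁ hcF ht₁m
      have hcm : ∀ x : P₁, c x ∈ Q := fun x => hcr ▸ (⟨x, rfl⟩ : c x ∈ c.range)
      have ht₂m : ∀ y : Q, t₂ y ∈ Q := fun y => by
        rw [ht₂e]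
        exact hcm _
      obtain ⟨θ, hθ, hθe⟩ := exists_aut ht₂ (range_eq_of_mapsTo ht₂ ht₂m)
      have hθ' := (mem_autGroup_iff F' hQS θ).1 (hAut hθ)
      -- φ = c⁻¹ θ a in F'
      have ham : ∀ x : P, a x ∈ Q := fun x => by rw [← har]; exact ⟨x, rfl⟩
      obtain ⟨u₁, hu₁, hu₁e⟩ := exists_comp haF' hθ' ham
      have hu₁m : ∀ x : P, u₁ x ∈ Q := fun x => by
        rw [hu₁e]
        exact (θ _).2
      obtain ⟨u₂, hu₂, hu₂e⟩ := exists_comp hu₁ hci hu₁m
      refine mem_of_apply_eq hu₂ fun x => ?_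
      rw [hu₂e]
      have e1 : u₁ x = c ⟨φ x, ⟨x, rfl⟩⟩ := by
        rw [hu₁e]
        have e2 : ((θ ⟨a x, ham x⟩ : Q) : Ω) = t₂ ⟨a x, ham x⟩ := hθe _
        have e3 : t₁ ⟨a x, ham x⟩ = φ x := by
          rw [ht₁e]
          congr 1
          exact Subtype.ext (hai1 x (ham x))
        have e4 : t₂ ⟨a x, ham x⟩ = c ⟨φ x, ⟨x, rfl⟩⟩ := by
          rw [ht₂e]
          congr 1
          exact Subtype.ext e3
        exact e2.trans e4
      have e5 : (⟨u₁ x, hu₁m x⟩ : Q) = ⟨c ⟨φ x, ⟨x, rfl⟩⟩, e1 ▸ hu₁m x⟩ := Subtype.ext e1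
      rw [e5]
      exact (hci1 ⟨φ x, ⟨x, rfl⟩⟩ _).symm
  exact main _ P rfl

/-- A receptive (or fully centralized) subgroup containing its centralizer in `S` is centric. -/
theorem isCentric_of_isFullyCentralized [Finite S] {F : FusionSystem S} {Q : Subgroup Ω}
    (hQ : F.IsFullyCentralized Q) (hC : centralizerIn S Q ≤ Q) : F.IsCentric Q := by
  refine ⟨hQ.1, fun P hP => ?_⟩
  have hPS : P ≤ S := isConj_le_right hP
  have hfinC : Finite (centralizerIn S P) := finite_of_le inf_le_left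
  have h1 := hQ.2 P hP
  obtain ⟨φ, hφ, hφr⟩ := hP
  -- |C_S(Q)| ≤ |P ∩ C_S(P)|
  have h2 : Nat.card (centralizerIn S Q) ≤ Nat.card (P ⊓ centralizerIn S P : Subgroup Ω) := by
    have : Finite (P ⊓ centralizerIn S P : Subgroup Ω) := finite_of_le (inf_le_left.trans hPS)
    refine card_le_of_maps (F.injective_of_mem hφ) hC (fun x hx => ⟨?_, ?_⟩)
    · rw [← hφr]
      exact ⟨_, rfl⟩
    · exact apply_mem_centralizerIn hφ le_rfl hφr (fun _ _ => rfl) ⟨x, hC hx⟩ hx.2
  have h3 : (P ⊓ centralizerIn S P : Subgroup Ω) = centralizerIn S P :=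
    Subgroup.eq_of_le_of_card_ge inf_le_right (h1.trans h2)
  rw [← h3]
  exact inf_le_left

/-- An element of `Aut_F(Q)`, for `Q` receptive, extends to a map of the system on `Q C_S(Q)`, which is the
source of a map bigger than `Q` unless `Q` is centric. -/
theorem exists_extension_of_not_centric [Finite S] {F : FusionSystem S} {Q : Subgroup Ω}
    (hQ : F.IsReceptive Q) (hnc : ¬ F.IsCentric Q) {α : MulAut Q} (hα : α ∈ F.autGroup Q) :
    ∃ R : Subgroup Ω, Q ≤ R ∧ Nat.card Q < Nat.card R ∧ ∃ ψ ∈ F.Hom R,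
      ∀ (x : Ω) (hx : x ∈ Q) (hx' : x ∈ R), ψ ⟨x, hx'⟩ = (α ⟨x, hx⟩ : Q) := by
  have hQS := hQ.1
  have hα' := (mem_autGroup_iff F hQS α).1 hα
  have hfinQ : Finite Q := finite_of_le hQS
  have hr : (Q.subtype.comp α.toMonoidHom).range = Q :=
    range_eq_of_mapsTo hα' (fun x => (α x).2)
  obtain ⟨ψ, hψ, hψe⟩ := hQ.2 Q _ hα' hr
  refine ⟨_, le_extender hQS (hom_apply_mem hα'), ?_, ψ, hψ, fun x hx hx' => hψe x hx hx'⟩
  have hfin : Finite (extender S Q (Q.subtype.comp α.toMonoidHom)) :=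
    finite_of_le (extender_le _ _ _)
  refine lt_of_le_of_ne
    (Nat.card_mono (Set.toFinite _) (le_extender hQS (hom_apply_mem hα'))) fun heq => ?_
  have h2 : Q = extender S Q (Q.subtype.comp α.toMonoidHom) :=
    Subgroup.eq_of_le_of_card_ge (le_extender hQS (hom_apply_mem hα')) heq.ge
  refine hnc (isCentric_of_isFullyCentralized (isFullyCentralized_of_isReceptive hQ) ?_)
  rw [h2]
  conv_lhs => rw [← h2]
  exact centralizerIn_le_extender _ _ _

/-- **Alperin's fusion theorem, centric version.** If `F` is saturated over `S`, and `F'` is a fusion system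
over `S` containing `Aut_F(Q)` for every fully normalized `F`-centric subgroup `Q`, then `F ≤ F'`. -/
theorem le_of_centric {p : ℕ} [Fact p.Prime] [Finite S] (hS : IsPGroup p S)
    {F : FusionSystem S} (hF : F.IsSaturated p) (F' : FusionSystem S)
    (h : ∀ Q : Subgroup Ω, F.IsFullyNormalized Q → F.IsCentric Q →
      (∀ R : Subgroup Ω, Nat.card Q < Nat.card R → F.Hom R ⊆ F'.Hom R) →
      F.autGroup Q ≤ F'.autGroup Q) (P : Subgroup Ω) : F.Hom P ⊆ F'.Hom P := by
  refine le_of_autGroup_le hS hF F' (fun Q hQ hbig => ?_) P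
  by_cases hc : F.IsCentric Q
  · exact h Q hQ hc hbig
  · intro α hα
    obtain ⟨R, hQR, hcard, ψ, hψ, he⟩ :=
      exists_extension_of_not_centric (isReceptive_of_isFullyNormalized hS hF hQ) hc hα
    rw [mem_autGroup_iff F' hQ.1]
    exact mem_of_agree (hbig R hcard hψ) hQR (fun x hx => (he x hx _).symm)

end Cfsg.Agent.H802
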