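import Cfsg.Agent.H802.FusSat
set_option linter.all false

/-!
# Saturated fusion systems: fully normalized subgroups (helper802)
-/

set_option autoImplicit false

namespace Cfsg.Agent.H802

open Cfsg Cfsg.FusionSystem

variable {Ω : Type*} [Group Ω] {S : Subgroup Ω}

/-- A fully normalized subgroup of a saturated system is fully centralized. -/
theorem isFullyCentralized_of_isFullyNormalized {p : ℕ} [Fact p.Prime] [Finite S]
    (hS : IsPGroup p S) {F : FusionSystem S} (hF : F.IsSaturated p) {Q : Subgroup Ω}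
    (hQ : F.IsFullyNormalized Q) : F.IsFullyCentralized Q := by
  obtain ⟨Q₀, hc, hQa, hQr⟩ := hF Q hQ.1
  have hc' := hc
  obtain ⟨φ, hφ, hφQ⟩ := hc
  obtain ⟨β, hβ, φ', hφ', hr, he, hN⟩ := exists_mod_extender hS hφ hφQ hQa
  obtain ⟨ψ, hψ, hψe⟩ := hQr.2 Q φ' hφ' hr
  have hQS : Q ≤ S := hQ.1
  have hQE : Q ≤ extender S Q φ' := le_extender hQS (hom_apply_mem hφ')
  have hfin : Finite (centralizerIn S Q) := finite_of_le inf_le_left
  have hfin1 : Finite (centralizerIn S Q₀) := finite_of_le inf_le_left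
  have hfin2 : Finite (normalizerIn S Q₀) := finite_of_le inf_le_left
  have hQ₀c : F.IsFullyCentralized Q₀ := isFullyCentralized_of_isReceptive hQr
  -- enough: |C_S(Q₀)| ≤ |C_S(Q)|
  have key : Nat.card (centralizerIn S Q₀) ≤ Nat.card (centralizerIn S Q) := by
    -- the inverse of ψ restricted to N_S(Q)
    have hmaps : ∀ (x : Ω) (hx : x ∈ normalizerIn S Q), ψ ⟨x, hN hx⟩ ∈ normalizerIn S Q₀ := by
      intro x hx
      exact apply_mem_normalizerIn hψ hQE (extender_le_normalizer _ _ _) hr
        (fun x hx => hψe x hx _) _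
    have hsurj := exists_preimage_of_card (F.injective_of_mem hψ) hN hmaps (hQ.2 Q₀ hc')
    have hall : ∀ b ∈ centralizerIn S Q₀, ∃ (x : Ω) (hx : x ∈ normalizerIn S Q),
        ψ ⟨x, hN hx⟩ = b ∧ x ∈ centralizerIn S Q := by
      intro b hb
      obtain ⟨x, hx, hxb⟩ := hsurj b (centralizerIn_le_normalizerIn S Q₀ hb)
      refine ⟨x, hx, hxb, hx.1, ?_⟩
      refine Subgroup.mem_centralizer_iff.2 fun z hz => ?_
      have h1 : φ' ⟨z, hz⟩ ∈ Q₀ := by
        rw [← hr]
        exact ⟨_, rfl⟩
      have h2 := Subgroup.mem_centralizer_iff.1 hb.2 _ h1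
      have h3 : φ' ⟨z, hz⟩ = ψ ⟨z, hQE hz⟩ := (hψe _ _ _).symm
      rw [h3, ← hxb, ← map_mul, ← map_mul] at h2
      exact congrArg Subtype.val (F.injective_of_mem hψ h2)
    choose! g hg1 hg2 using hall
    refine Nat.card_le_card_of_injective
      (fun b : centralizerIn S Q₀ => (⟨g b, (hg2 b b.2).2⟩ : centralizerIn S Q)) ?_
    intro b b' hbb
    have h1 : g b = g b' := congrArg Subtype.val hbb
    have h2 := (hg2 b b.2).1
    have h3 := (hg2 b' b'.2).1
    apply Subtype.ext
    rw [← h2, ← h3]
    congr 1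
    exact Subtype.ext h1
  refine ⟨hQS, fun P hP => ?_⟩
  exact (hQ₀c.2 P (isConj_trans (isConj_symm hc') hP)).trans key

/-- In a saturated system every fully normalized subgroup is receptive. -/
theorem isReceptive_of_isFullyNormalized {p : ℕ} [Fact p.Prime] [Finite S]
    (hS : IsPGroup p S) {F : FusionSystem S} (hF : F.IsSaturated p) {Q : Subgroup Ω}
    (hQ : F.IsFullyNormalized Q) : F.IsReceptive Q :=
  isReceptive_of_isFullyCentralized hS hF (isFullyCentralized_of_isFullyNormalized hS hF hQ)

/-- `|Aut_S(P)| * |C_S(P)| = |N_S(P)|`. -/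
theorem card_autInducedBy_mul (S P : Subgroup Ω) :
    Nat.card (autInducedBy S P) * Nat.card (centralizerIn S P) = Nat.card (normalizerIn S P) := by
  -- the homomorphism N_S(P) → Aut(P)
  let f : normalizerIn S P →* MulAut P :=
    { toFun := fun g =>
        { toFun := fun x => ⟨g * x * g⁻¹, (Subgroup.mem_normalizer_iff.1 g.2.2 x).1 x.2⟩
          invFun := fun x => ⟨(g : Ω)⁻¹ * x * g, by
            have := (Subgroup.mem_normalizer_iff.1
              ((Subgroup.normalizer (P : Set Ω)).inv_mem g.2.2) x).1 x.2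
            simpa using this⟩
          left_inv := fun x => Subtype.ext (by simp [mul_assoc])
          right_inv := fun x => Subtype.ext (by simp [mul_assoc])
          map_mul' := fun x y => Subtype.ext (by simp [mul_assoc]) }
      map_one' := by
        apply MulEquiv.ext
        intro x
        apply Subtype.ext
        show (1 : Ω) * x * (1 : Ω)⁻¹ = x
        simp
      map_mul' := by
        intro g h
        apply MulEquiv.ext
        intro x
        apply Subtype.ext
        show ((g * h : normalizerIn S P) : Ω) * x * ((g * h : normalizerIn S P) : Ω)⁻¹ =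
          (g : Ω) * (h * x * (h : Ω)⁻¹) * (g : Ω)⁻¹
        rw [Subgroup.coe_mul]
        group }
  have hfa : ∀ (g : normalizerIn S P) (x : P), ((f g x : P) : Ω) = g * x * (g : Ω)⁻¹ :=
    fun g x => rfl
  have hrange : f.range = autInducedBy S P := by
    ext α
    rw [mem_autInducedBy_iff]
    constructor
    · rintro ⟨g, rfl⟩
      exact ⟨g, g.2.1, hfa g⟩
    · rintro ⟨g, hg, h⟩
      refine ⟨⟨g, hg, mem_normalizer_of_aut h⟩, ?_⟩
      apply MulEquiv.ext
      intro x
      apply Subtype.ext
      rw [hfa, h]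
  have hker : f.ker = (centralizerIn S P).subgroupOf (normalizerIn S P) := by
    ext g
    rw [MonoidHom.mem_ker, Subgroup.mem_subgroupOf]
    constructor
    · intro h
      refine ⟨g.2.1, Subgroup.mem_centralizer_iff.2 fun x hx => ?_⟩
      have h1 : ((f g ⟨x, hx⟩ : P) : Ω) = x := by rw [h]; rfl
      rw [hfa] at h1
      calc x * (g : Ω) = (g * x * (g : Ω)⁻¹) * g := by rw [h1]
        _ = g * x := by group
    · intro h
      apply MulEquiv.ext
      intro x
      apply Subtype.ext
      rw [hfa, ← Subgroup.mem_centralizer_iff.1 h.2 x x.2]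
      simp
  have h1 : Nat.card f.range * Nat.card f.ker = Nat.card (normalizerIn S P) := by
    rw [← Nat.card_congr (QuotientGroup.quotientKerEquivRange f).toEquiv]
    rw [Subgroup.card_eq_card_quotient_mul_card_subgroup f.ker]
  rw [hrange, hker] at h1
  rw [← h1]
  congr 1
  exact (Nat.card_congr (Subgroup.subgroupOfEquivOfLe
    (centralizerIn_le_normalizerIn S P)).toEquiv).symm

/-- Conjugate subgroups have automorphism groups of the same order. -/
theorem card_autGroup_eq {F : FusionSystem S} {P Q : Subgroup Ω} (h : F.IsConj P Q) :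
    Nat.card (F.autGroup P) = Nat.card (F.autGroup Q) := by
  obtain ⟨φ, hφ, hr⟩ := h
  refine Nat.card_congr (Equiv.ofBijective
    (fun α : F.autGroup P => (⟨MulAut.congr (isoOf φ (F.injective_of_mem hφ) hr) α,
      congr_mem_autGroup hφ hr α.2⟩ : F.autGroup Q)) ⟨?_, ?_⟩)
  · intro a b hab
    apply Subtype.ext
    exact (MulAut.congr (isoOf φ (F.injective_of_mem hφ) hr)).injective (congrArg Subtype.val hab)
  · rintro ⟨b, hb⟩
    obtain ⟨a, rfl⟩ := (MulAut.congr (isoOf φ (F.injective_of_mem hφ) hr)).surjective b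
    exact ⟨⟨a, (congr_mem_autGroup_iff hφ hr).1 hb⟩, rfl⟩

/-- `P` is fully automized iff `Aut_S(P)` has the order of a Sylow `p`-subgroup of `Aut_F(P)`. -/
theorem isFullyAutomized_iff_card {p : ℕ} [Fact p.Prime] [Finite S] (hS : IsPGroup p S)
    {F : FusionSystem S} {P : Subgroup Ω} (hP : P ≤ S) :
    F.IsFullyAutomized p P ↔
      Nat.card (autInducedBy S P) = p ^ (Nat.card (F.autGroup P)).factorization p := by
  have : Finite P := finite_of_le hP
  have hle := autInducedBy_le_autGroup F hP
  have hcard : Nat.card ((autInducedBy S P).subgroupOf (F.autGroup P)) =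
      Nat.card (autInducedBy S P) := Nat.card_congr (Subgroup.subgroupOfEquivOfLe hle).toEquiv
  constructor
  · rintro ⟨-, R, hR⟩
    rw [← hcard, ← hR]
    exact R.card_eq_multiplicity
  · intro h
    refine ⟨hP, ?_⟩
    have h2 : Nat.card ((autInducedBy S P).subgroupOf (F.autGroup P)) =
        p ^ (Nat.card (F.autGroup P)).factorization p := by rw [hcard, h]
    exact ⟨Sylow.ofCard _ h2, rfl⟩

/-- In a saturated system every fully normalized subgroup is fully automized. -/
theorem isFullyAutomized_of_isFullyNormalized {p : ℕ} [Fact p.Prime] [Finite S]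
    (hS : IsPGroup p S) {F : FusionSystem S} (hF : F.IsSaturated p) {Q : Subgroup Ω}
    (hQ : F.IsFullyNormalized Q) : F.IsFullyAutomized p Q := by
  obtain ⟨Q₀, hc, hQa, hQr⟩ := hF Q hQ.1
  have hQ₀n : F.IsFullyNormalized Q₀ := isFullyNormalized_of_automized_receptive hS hQa hQr
  have hQc : F.IsFullyCentralized Q := isFullyCentralized_of_isFullyNormalized hS hF hQ
  have hQ₀c : F.IsFullyCentralized Q₀ := isFullyCentralized_of_isReceptive hQr
  have hN : Nat.card (normalizerIn S Q) = Nat.card (normalizerIn S Q₀) :=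
    le_antisymm (hQ₀n.2 Q (isConj_symm hc)) (hQ.2 Q₀ hc)
  have hC : Nat.card (centralizerIn S Q) = Nat.card (centralizerIn S Q₀) :=
    le_antisymm (hQ₀c.2 Q (isConj_symm hc)) (hQc.2 Q₀ hc)
  have h1 := card_autInducedBy_mul S Q
  have h2 := card_autInducedBy_mul S Q₀
  rw [hN, hC, ← h2] at h1
  have hfin : Finite (centralizerIn S Q₀) := finite_of_le inf_le_left
  have h3 : Nat.card (autInducedBy S Q) = Nat.card (autInducedBy S Q₀) :=
    Nat.eq_of_mul_eq_mul_right Nat.card_pos h1
  rw [isFullyAutomized_iff_card hS hQ.1, h3, card_autGroup_eq hc]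
  exact (isFullyAutomized_iff_card hS hQa.1).1 hQa

/-- In a saturated system, fully normalized is the same as fully automized and receptive. -/
theorem isFullyNormalized_iff {p : ℕ} [Fact p.Prime] [Finite S]
    (hS : IsPGroup p S) {F : FusionSystem S} (hF : F.IsSaturated p) {Q : Subgroup Ω} :
    F.IsFullyNormalized Q ↔ F.IsFullyAutomized p Q ∧ F.IsReceptive Q :=
  ⟨fun h => ⟨isFullyAutomized_of_isFullyNormalized hS hF h,
    isReceptive_of_isFullyNormalized hS hF h⟩,
   fun h => isFullyNormalized_of_automized_receptive hS h.1 h.2⟩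

theorem isReceptive_iff {p : ℕ} [Fact p.Prime] [Finite S]
    (hS : IsPGroup p S) {F : FusionSystem S} (hF : F.IsSaturated p) {Q : Subgroup Ω} :
    F.IsReceptive Q ↔ F.IsFullyCentralized Q :=
  ⟨isFullyCentralized_of_isReceptive, isReceptive_of_isFullyCentralized hS hF⟩

/-- Every subgroup of `S` has a fully normalized conjugate. -/
theorem exists_isFullyNormalized {p : ℕ} [Fact p.Prime] [Finite S]
    (hS : IsPGroup p S) {F : FusionSystem S} (hF : F.IsSaturated p) {P : Subgroup Ω}
    (hP : P ≤ S) : ∃ Q, F.IsConj P Q ∧ F.IsFullyNormalized Q := by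
  obtain ⟨Q, h1, h2, h3⟩ := hF P hP
  exact ⟨Q, h1, isFullyNormalized_of_automized_receptive hS h2 h3⟩

/-- Extension of a map onto a fully normalized subgroup: after composing with an element of `Aut_F(Q)`,
`φ : P → Q` extends to `N_S(P) → N_S(Q)`. -/
theorem exists_extension_normalizer {p : ℕ} [Fact p.Prime] [Finite S] (hS : IsPGroup p S)
    {F : FusionSystem S} (hF : F.IsSaturated p) {P Q : Subgroup Ω} {φ : P →* Ω}
    (hφ : φ ∈ F.Hom P) (hφQ : φ.range = Q) (hQ : F.IsFullyNormalized Q) :
    ∃ β ∈ F.autGroup Q, ∃ ψ ∈ F.Hom (normalizerIn S P),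
      (∀ (x : P) (hx : φ x ∈ Q) (hx' : (x : Ω) ∈ normalizerIn S P),
        ψ ⟨x, hx'⟩ = (β ⟨φ x, hx⟩ : Q)) ∧
      ∀ y : normalizerIn S P, ψ y ∈ normalizerIn S Q :=
  exists_mod_extension hS hφ hφQ (isFullyAutomized_of_isFullyNormalized hS hF hQ)
    (isReceptive_of_isFullyNormalized hS hF hQ)

end Cfsg.Agent.H802
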