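import Cfsg.Agent.H802.FusAlp
set_option linter.all false

/-!
# Maps agreeing on a centric subgroup; subsystems and centric subgroups (helper802)
-/

set_option autoImplicit false

namespace Cfsg.Agent.H802

open Cfsg Cfsg.FusionSystem

variable {Ω : Type*} [Group Ω] {S : Subgroup Ω}

/-- General Sylow trick: a `p`-subgroup `B` of `Aut_F(P)` is carried into `Aut_S(Q)` by an isomorphism
`P → Q` of the system onto a fully automized subgroup, after composing it with an element of `Aut_F(Q)`. -/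
theorem exists_aut_conj_le_of_isPGroup {p : ℕ} [Fact p.Prime] [Finite S]
    {F : FusionSystem S} {P Q : Subgroup Ω} {φ : P →* Ω} (hφ : φ ∈ F.Hom P) (hφQ : φ.range = Q)
    (hQ : F.IsFullyAutomized p Q) (B : Subgroup (MulAut P)) (hB : B ≤ F.autGroup P)
    (hBp : IsPGroup p B) :
    ∃ β ∈ F.autGroup Q, ∀ α ∈ B,
      β * (MulAut.congr (isoOf φ (F.injective_of_mem hφ) hφQ) α) * β⁻¹ ∈ autInducedBy S Q := by
  obtain ⟨hQS, R, hR⟩ := hQ
  have : Finite Q := finite_of_le hQS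
  have : Finite (MulAut Q) := inferInstance
  set e := MulAut.congr (isoOf φ (F.injective_of_mem hφ) hφQ) with he
  set B' : Subgroup (F.autGroup Q) := (B.map e.toMonoidHom).subgroupOf (F.autGroup Q) with hB'
  have hB'p : IsPGroup p B' :=
    (hBp.map e.toMonoidHom).comap_of_injective _ (Subgroup.subtype_injective _)
  obtain ⟨R', hR'⟩ := hB'p.exists_le_sylow
  obtain ⟨b, hb⟩ := MulAction.exists_smul_eq (F.autGroup Q) R' R
  refine ⟨b, b.2, fun α hα => ?_⟩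
  have h1 : e α ∈ F.autGroup Q := congr_mem_autGroup hφ hφQ (hB hα)
  have h2 : (⟨e α, h1⟩ : F.autGroup Q) ∈ B' := by
    rw [hB', Subgroup.mem_subgroupOf]
    exact ⟨α, hα, rfl⟩
  have h3 : b * ⟨e α, h1⟩ * b⁻¹ ∈ (R : Subgroup (F.autGroup Q)) := by
    rw [← hb]
    exact Subgroup.smul_mem_pointwise_smul (⟨e α, h1⟩ : F.autGroup Q) (MulAut.conj b)
      (R' : Subgroup (F.autGroup Q)) (hR' h2)
  rw [hR, Subgroup.mem_subgroupOf] at h3
  exact h3

/-- Pointwise form of the Sylow trick for one automorphism of `p`-power order: some isomorphism `φ` of the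
system from `P` onto a fully automized `Q` satisfies `φ(α x) = g φ(x) g⁻¹` for an element `g ∈ S`. -/
theorem exists_conj_of_orderOf {p : ℕ} [Fact p.Prime] [Finite S] {F : FusionSystem S}
    (hF : F.IsSaturated p) {P : Subgroup Ω} (hP : P ≤ S) {α : MulAut P} (hα : α ∈ F.autGroup P)
    {k : ℕ} (hk : α ^ p ^ k = 1) :
    ∃ φ ∈ F.Hom P, ∃ g ∈ S, ∀ x : P, φ (α x) = g * φ x * g⁻¹ := by
  obtain ⟨Q, ⟨φ, hφ, hφQ⟩, hQa, -⟩ := hF P hP
  have hBp : IsPGroup p (Subgroup.zpowers α) := by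
    rintro ⟨b, hb⟩
    obtain ⟨n, rfl⟩ := Subgroup.mem_zpowers_iff.1 hb
    refine ⟨k, Subtype.ext ?_⟩
    show (α ^ n) ^ p ^ k = 1
    rw [← zpow_natCast, ← zpow_mul, mul_comm, zpow_mul, zpow_natCast, hk, one_zpow]
  obtain ⟨β, hβ, hβe⟩ := exists_aut_conj_le_of_isPGroup hφ hφQ hQa (Subgroup.zpowers α)
    (Subgroup.zpowers_le.2 hα) hBp
  obtain ⟨g, hg, hge⟩ := (mem_autInducedBy_iff S Q _).1 (hβe α (Subgroup.mem_zpowers α))
  have hφm : ∀ x : P, φ x ∈ Q := fun x => by rw [← hφQ]; exact ⟨x, rfl⟩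
  obtain ⟨φ', hφ', hφ'e⟩ := exists_comp hφ ((mem_autGroup_iff F hQa.1 β).1 hβ) hφm
  have hφ'x : ∀ x : P, φ' x = (β ⟨φ x, hφm x⟩ : Q) := fun x => hφ'e x
  refine ⟨φ', hφ', g, hg, fun x => ?_⟩
  have h1 := hge (β ⟨φ x, hφm x⟩)
  rw [hφ'x, hφ'x, ← h1, MulAut.mul_apply, MulAut.mul_apply]
  have h2 : β⁻¹ (β ⟨φ x, hφm x⟩) = (⟨φ x, hφm x⟩ : Q) := β.symm_apply_apply _
  rw [h2]
  congr 2
  apply Subtype.ext
  show φ (α x) = φ (α ((isoOf φ (F.injective_of_mem hφ) hφQ).symm ⟨φ x, hφm x⟩))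
  have h3 : (isoOf φ (F.injective_of_mem hφ) hφQ).symm ⟨φ x, hφm x⟩ = x :=
    (isoOf φ (F.injective_of_mem hφ) hφQ).symm_apply_apply x
  rw [h3]

/-- A subgroup of `S` containing a centric subgroup is centric. -/
theorem isCentric_of_le {F : FusionSystem S} {Q P : Subgroup Ω} (hQ : F.IsCentric Q)
    (hQP : Q ≤ P) (hP : P ≤ S) : F.IsCentric P := by
  refine ⟨hP, ?_⟩
  rintro R ⟨φ, hφ, rfl⟩
  have h1 : F.IsConj Q (φ.comp (Subgroup.inclusion hQP)).range := ⟨_, restrict_mem hφ hQP, rfl⟩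
  have h2 := hQ.2 _ h1
  have h3 : (φ.comp (Subgroup.inclusion hQP)).range ≤ φ.range := by
    rintro _ ⟨x, rfl⟩
    exact ⟨_, rfl⟩
  refine le_trans (le_trans ?_ h2) h3
  exact inf_le_inf_left _ (Subgroup.centralizer_le h3)

/-- A conjugate of a centric subgroup is centric. -/
theorem isCentric_of_isConj {F : FusionSystem S} {Q P : Subgroup Ω} (hQ : F.IsCentric Q)
    (h : F.IsConj Q P) : F.IsCentric P :=
  ⟨isConj_le_right h, fun R hR => hQ.2 R (isConj_trans h hR)⟩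

/-- A map of a saturated system which is the identity on a centric subgroup `Q` normal in its source `P` is
conjugation by an element of `Z(Q)`. -/
theorem exists_conj_of_id_on_centric_normal {p : ℕ} [Fact p.Prime] [Finite S]
    (hS : IsPGroup p S) {F : FusionSystem S} (hF : F.IsSaturated p) {Q P : Subgroup Ω}
    (hQ : F.IsCentric Q) (hQP : Q ≤ P) (hN : P ≤ Subgroup.normalizer (Q : Set Ω)) {χ : P →* Ω}
    (hχ : χ ∈ F.Hom P) (hid : ∀ (x : Ω) (hx : x ∈ Q), χ ⟨x, hQP hx⟩ = x) :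
    ∃ z ∈ Q, z ∈ Subgroup.centralizer (Q : Set Ω) ∧ ∀ x : P, χ x = z * x * z⁻¹ := by
  have hPS : P ≤ S := hom_le hχ
  have hQS : Q ≤ S := hQ.1
  have hfinP : Finite P := finite_of_le hPS
  have hCQ : centralizerIn S Q ≤ Q := hQ.2 Q (isConj_refl F hQS)
  -- x⁻¹ χ(x) ∈ C_S(Q) ≤ Q
  have hd : ∀ x : P, (x : Ω)⁻¹ * χ x ∈ centralizerIn S Q := by
    intro x
    refine ⟨S.mul_mem (S.inv_mem (hPS x.2)) (hom_apply_mem hχ x), ?_⟩
    refine Subgroup.mem_centralizer_iff.2 fun y hy => ?_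
    have h1 : (x : Ω) * y * (x : Ω)⁻¹ ∈ Q := (Subgroup.mem_normalizer_iff.1 (hN x.2) y).1 hy
    have h2 := hid _ h1
    have h3 : (⟨(x : Ω) * y * (x : Ω)⁻¹, hQP h1⟩ : P) = x * ⟨y, hQP hy⟩ * x⁻¹ := rfl
    rw [h3, map_mul, map_mul, map_inv, hid y hy] at h2
    -- χ x * y * (χ x)⁻¹ = x * y * x⁻¹
    calc y * ((x : Ω)⁻¹ * χ x) = (x : Ω)⁻¹ * ((x : Ω) * y * (x : Ω)⁻¹) * χ x := by group
      _ = (x : Ω)⁻¹ * (χ x * y * (χ x)⁻¹) * χ x := by rw [h2]
      _ = (x : Ω)⁻¹ * χ x * y := by group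
  have hχP : ∀ x : P, χ x ∈ P := by
    intro x
    have h1 := P.mul_mem x.2 (hQP (hCQ (hd x)))
    have h2 : (x : Ω) * ((x : Ω)⁻¹ * χ x) = χ x := by group
    rwa [h2] at h1
  obtain ⟨α, hα, hαe⟩ := exists_aut hχ (range_eq_of_mapsTo hχ hχP)
  -- α has p-power order
  have hpow : ∀ (n : ℕ) (x : P),
      (((α ^ n) x : P) : Ω) = x * ((x : Ω)⁻¹ * χ x) ^ n := by
    intro n
    induction n with
    | zero => intro x; simp
    | succ n ih =>
      intro x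
      rw [pow_succ', MulAut.mul_apply, hαe]
      have h1 : (α ^ n) x = x * ⟨((x : Ω)⁻¹ * χ x) ^ n, hQP (Q.pow_mem (hCQ (hd x)) n)⟩ :=
        Subtype.ext (ih x)
      rw [h1, map_mul]
      rw [hid _ (Q.pow_mem (hCQ (hd x)) n)]
      rw [pow_succ', ← mul_assoc, mul_inv_cancel_left]
  obtain ⟨k, hk⟩ : ∃ k : ℕ, Nat.card S = p ^ k := (IsPGroup.iff_card).1 hS
  have hαk : α ^ p ^ k = 1 := by
    apply MulEquiv.ext
    intro x
    apply Subtype.ext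
    rw [hpow]
    have h1 : ((x : Ω)⁻¹ * χ x) ^ p ^ k = 1 := by
      have h2 : (⟨(x : Ω)⁻¹ * χ x, (hd x).1⟩ : S) ^ Nat.card S = 1 := pow_card_eq_one'
      have h3 := congrArg Subtype.val h2
      rw [hk] at h3
      exact h3
    rw [h1]
    simp
  obtain ⟨φ, hφ, g, hg, hge⟩ := exists_conj_of_orderOf hF hPS hα hαk
  -- g centralizes φ(Q)
  have hgC : g ∈ centralizerIn S (φ.comp (Subgroup.inclusion hQP)).range := by
    refine ⟨hg, Subgroup.mem_centralizer_iff.2 ?_⟩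
    rintro _ ⟨x, rfl⟩
    have h1 := hge ⟨x, hQP x.2⟩
    have h2 : α ⟨(x : Ω), hQP x.2⟩ = ⟨x, hQP x.2⟩ := by
      apply Subtype.ext
      rw [hαe, hid x x.2]
    rw [h2] at h1
    show φ ⟨x, hQP x.2⟩ * g = g * φ ⟨x, hQP x.2⟩
    conv_lhs => rw [h1]
    group
  have hconj : F.IsConj Q (φ.comp (Subgroup.inclusion hQP)).range :=
    ⟨_, restrict_mem hφ hQP, rfl⟩
  obtain ⟨z, hz⟩ := hQ.2 _ hconj hgC
  have hz' : φ ⟨z, hQP z.2⟩ = g := hz
  have hall : ∀ x : P, χ x = z * x * (z : Ω)⁻¹ := by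
    intro x
    have h1 := hge x
    rw [← hz', ← map_inv, ← map_mul, ← map_mul] at h1
    have h2 := congrArg Subtype.val (F.injective_of_mem hφ h1)
    rw [hαe] at h2
    exact h2
  refine ⟨z, z.2, ?_, hall⟩
  refine Subgroup.mem_centralizer_iff.2 fun y hy => ?_
  have h1 := hall ⟨y, hQP hy⟩
  rw [hid y hy] at h1
  calc y * (z : Ω) = (z * y * (z : Ω)⁻¹) * z := by rw [← h1]
    _ = z * y := by group

/-- The normalizer of `Q` inside `P` is properly larger than `Q` when `Q < P ≤ S`. -/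
theorem lt_inf_normalizer {p : ℕ} [Fact p.Prime] [Finite S] (hS : IsPGroup p S)
    {Q P : Subgroup Ω} (hQP : Q ≤ P) (hP : P ≤ S) (hne : Q ≠ P) :
    Q < P ⊓ Subgroup.normalizer (Q : Set Ω) := by
  have hfinP : Finite P := finite_of_le hP
  have hPp : IsPGroup p P := hS.to_le hP
  have h := card_lt_card_normalizerIn hPp hQP hne
  exact lt_of_le_of_ne (le_normalizerIn hQP) (fun heq => by
    have h2 : Nat.card Q = Nat.card (normalizerIn P Q) := by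
      conv_lhs => rw [heq]
      rfl
    omega)

/-- Two maps of a saturated system which agree on a centric subgroup `Q` of their common source `P` differ by
conjugation by an element of `Z(Q)`. -/
theorem exists_conj_of_agree_on_centric {p : ℕ} [Fact p.Prime] [Finite S]
    (hS : IsPGroup p S) {F : FusionSystem S} (hF : F.IsSaturated p) {Q P : Subgroup Ω}
    (hQ : F.IsCentric Q) (hQP : Q ≤ P) {χ₁ χ₂ : P →* Ω} (h₁ : χ₁ ∈ F.Hom P) (h₂ : χ₂ ∈ F.Hom P)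
    (hagree : ∀ (x : Ω) (hx : x ∈ Q), χ₁ ⟨x, hQP hx⟩ = χ₂ ⟨x, hQP hx⟩) :
    ∃ z ∈ Q, z ∈ Subgroup.centralizer (Q : Set Ω) ∧
      ∀ (x : P) (hx : z * (x : Ω) * z⁻¹ ∈ P), χ₂ x = χ₁ ⟨z * x * z⁻¹, hx⟩ := by
  have hPS : P ≤ S := hom_le h₁
  have main : ∀ n : ℕ, ∀ (Q : Subgroup Ω) (hQP : Q ≤ P), F.IsCentric Q →
      ∀ χ₁ χ₂ : P →* Ω, χ₁ ∈ F.Hom P → χ₂ ∈ F.Hom P →
      (∀ (x : Ω) (hx : x ∈ Q), χ₁ ⟨x, hQP hx⟩ = χ₂ ⟨x, hQP hx⟩) →
      Nat.card P - Nat.card Q = n →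
      ∃ z ∈ Q, z ∈ Subgroup.centralizer (Q : Set Ω) ∧
        ∀ (x : P) (hx : z * (x : Ω) * z⁻¹ ∈ P), χ₂ x = χ₁ ⟨z * x * z⁻¹, hx⟩ := by
    intro n
    induction n using Nat.strong_induction_on with
    | _ n ih =>
    intro Q hQP hQ χ₁ χ₂ h₁ h₂ hagree hn
    by_cases hQeq : Q = P
    · subst hQeq
      refine ⟨1, Q.one_mem, Subgroup.one_mem _, fun x hx => ?_⟩
      have e1 : (⟨1 * (x : Ω) * 1⁻¹, hx⟩ : Q) = x := Subtype.ext (by simp)
      rw [e1]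
      exact (hagree x x.2).symm
    · have hfinP : Finite P := finite_of_le hPS
      set N := P ⊓ Subgroup.normalizer (Q : Set Ω) with hN
      have hQN : Q < N := lt_inf_normalizer hS hQP hPS hQeq
      have hNP : N ≤ P := inf_le_left
      have hfinN : Finite N := finite_of_le (hNP.trans hPS)
      have hNN : N ≤ Subgroup.normalizer (Q : Set Ω) := inf_le_right
      -- the map χ₁⁻¹ χ₂ on N
      -- first, on N: r = (restriction of χ₁)⁻¹ ∘ χ₂ is defined since images agree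
      have hCQ : centralizerIn S Q ≤ Q := hQ.2 Q (isConj_refl F hQ.1)
      -- set Q' = χ₁(Q), N₁ = χ₁(N); χ₂(N) normalizes χ₂(Q) = χ₁(Q)
      -- consider the map ω = χ₂ ∘ ψ on N₁ = χ₁(N), identity on χ₁(Q)
      set N₁ := (χ₁.comp (Subgroup.inclusion hNP)).range with hN₁
      set Q₁ := (χ₁.comp (Subgroup.inclusion hQP)).range with hQ₁
      obtain ⟨ψ, hψ, hψr, hψ1, hψ2⟩ := exists_inv (Q := N₁) (restrict_mem h₁ hNP) rfl
      have hψN : ∀ y : N₁, ψ y ∈ N := fun y => by rw [← hψr]; exact ⟨y, rfl⟩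
      obtain ⟨ω, hω, hωe⟩ := exists_comp hψ (restrict_mem h₂ hNP) hψN
      have hQ₁c : F.IsCentric Q₁ :=
        isCentric_of_isConj hQ ⟨_, restrict_mem h₁ hQP, rfl⟩
      have hQ₁N₁ : Q₁ ≤ N₁ := by
        rintro _ ⟨x, rfl⟩
        exact ⟨⟨x, hQN.le x.2⟩, rfl⟩
      have hN₁N : N₁ ≤ Subgroup.normalizer (Q₁ : Set Ω) := by
        rintro _ ⟨y, rfl⟩
        have := apply_mem_normalizerIn (P := Q) (Q := Q₁) (R := N)
          (φ := χ₁.comp (Subgroup.inclusion hQP)) (restrict_mem h₁ hNP) hQN.le hNN rfl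
          (fun _ _ => rfl) y
        exact this.2
      have hωid : ∀ (x : Ω) (hx : x ∈ Q₁), ω ⟨x, hQ₁N₁ hx⟩ = x := by
        rintro _ ⟨x, rfl⟩
        rw [hωe]
        have e1 : ψ ⟨(χ₁.comp (Subgroup.inclusion hQP)) x, hQ₁N₁ ⟨x, rfl⟩⟩ = x :=
          hψ1 ⟨x, hQN.le x.2⟩ _
        have e2 : (⟨ψ ⟨(χ₁.comp (Subgroup.inclusion hQP)) x, hQ₁N₁ ⟨x, rfl⟩⟩, hψN _⟩ : N) =
            ⟨x, hQN.le x.2⟩ := Subtype.ext e1
        rw [e2]
        exact (hagree x x.2).symm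
      obtain ⟨w, hw, hwC, hwe⟩ :=
        exists_conj_of_id_on_centric_normal hS hF hQ₁c hQ₁N₁ hN₁N hω hωid
      obtain ⟨z, hz⟩ := hw
      -- now χ₂ x = χ₁ (z x z⁻¹) for x ∈ N
      have hzP : (z : Ω) ∈ P := hQP z.2
      have hzw : χ₁ ⟨z, hzP⟩ = w := hz
      have hN2 : ∀ (x : Ω) (hx : x ∈ N), χ₂ ⟨x, hNP hx⟩ =
          χ₁ ⟨z * x * (z : Ω)⁻¹, P.mul_mem (P.mul_mem hzP (hNP hx)) (P.inv_mem hzP)⟩ := by
        intro x hx
        have e1 : (χ₁.comp (Subgroup.inclusion hNP)) ⟨x, hx⟩ ∈ N₁ := ⟨_, rfl⟩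
        have e2 := hwe ⟨_, e1⟩
        rw [hωe] at e2
        have e3 : ψ ⟨(χ₁.comp (Subgroup.inclusion hNP)) ⟨x, hx⟩, e1⟩ = x := hψ1 ⟨x, hx⟩ _
        have e4 : (⟨ψ ⟨(χ₁.comp (Subgroup.inclusion hNP)) ⟨x, hx⟩, e1⟩, hψN _⟩ : N) = ⟨x, hx⟩ :=
          Subtype.ext e3
        rw [e4] at e2
        have e5 : χ₂ ⟨x, hNP hx⟩ = w * χ₁ ⟨x, hNP hx⟩ * w⁻¹ := e2
        rw [e5, ← hzw, ← map_inv, ← map_mul, ← map_mul]
        rfl
      have hzC : (z : Ω) ∈ Subgroup.centralizer (Q : Set Ω) := by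
        refine Subgroup.mem_centralizer_iff.2 fun y hy => ?_
        have e1 := hN2 y (hQN.le hy)
        rw [← hagree y hy] at e1
        have e2 := congrArg Subtype.val (F.injective_of_mem h₁ e1)
        have e3 : y = z * y * (z : Ω)⁻¹ := e2
        calc y * (z : Ω) = (z * y * (z : Ω)⁻¹) * z := by rw [← e3]
          _ = z * y := by group
      -- χ₁' = χ₁ ∘ c_z
      have hcz : conjHom P (z : Ω) ∈ F.Hom P := F.conj_mem hPS (hPS hzP)
      have hczP : ∀ x : P, conjHom P (z : Ω) x ∈ P := fun x =>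
        P.mul_mem (P.mul_mem hzP x.2) (P.inv_mem hzP)
      obtain ⟨χ₁', hχ₁', hχ₁'e⟩ := exists_comp hcz h₁ hczP
      have hχ₁'x : ∀ x : P, χ₁' x =
          χ₁ ⟨z * x * (z : Ω)⁻¹, P.mul_mem (P.mul_mem hzP x.2) (P.inv_mem hzP)⟩ :=
        fun x => hχ₁'e x
      have hcard : Nat.card Q < Nat.card N := by
        refine lt_of_le_of_ne (Nat.card_mono (Set.toFinite _) hQN.le) fun heq => ?_
        exact hQN.ne (Subgroup.eq_of_le_of_card_ge hQN.le heq.ge)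
      have hcard2 : Nat.card N ≤ Nat.card P := Nat.card_mono (Set.toFinite _) hNP
      obtain ⟨u, hu, huC, hue⟩ := ih (Nat.card P - Nat.card N) (by omega) N hNP
        (isCentric_of_le hQ hQN.le (hNP.trans hPS)) χ₁' χ₂ hχ₁' h₂
        (fun x hx => by rw [hχ₁'x, hN2 x hx]) rfl
      have huCQ : u ∈ Subgroup.centralizer (Q : Set Ω) :=
        Subgroup.centralizer_le hQN.le huC
      have huQ : u ∈ Q := hCQ ⟨hPS (hNP hu), huCQ⟩
      refine ⟨z * u, Q.mul_mem z.2 huQ, Subgroup.mul_mem _ hzC huCQ, fun x hx => ?_⟩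
      have hux : u * (x : Ω) * u⁻¹ ∈ P := P.mul_mem (P.mul_mem (hNP hu) x.2) (P.inv_mem (hNP hu))
      rw [hue x hux, hχ₁'x]
      congr 1
      apply Subtype.ext
      show z * (u * (x : Ω) * u⁻¹) * (z : Ω)⁻¹ = z * u * x * (z * u)⁻¹
      group
  exact main _ Q hQP hQ χ₁ χ₂ h₁ h₂ hagree rfl

/-- For saturated `F' ≤ F` over the same `S`: a map of `F` whose restriction to an `F`-centric subgroup `Q`
normal in its source is a map of `F'`, is a map of `F'`. -/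
theorem mem_of_restrict_centric_normal {p : ℕ} [Fact p.Prime] [Finite S]
    (hS : IsPGroup p S) {F F' : FusionSystem S} (hF : F.IsSaturated p) (hF' : F'.IsSaturated p)
    (hle : F' ≤ F) {Q R : Subgroup Ω} (hQ : F.IsCentric Q) (hQR : Q ≤ R)
    (hN : R ≤ Subgroup.normalizer (Q : Set Ω)) {ψ : R →* Ω} (hψ : ψ ∈ F.Hom R)
    (hψQ : ψ.comp (Subgroup.inclusion hQR) ∈ F'.Hom Q) : ψ ∈ F'.Hom R := by
  have hRS : R ≤ S := hom_le hψ
  have hQS : Q ≤ S := hQ.1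
  set ψ₀ := ψ.comp (Subgroup.inclusion hQR) with hψ₀
  set Q₁ := ψ₀.range with hQ₁
  have hQ₁S : Q₁ ≤ S := range_le_of_mem hψQ
  obtain ⟨Q₂, ⟨χ, hχ, hχr⟩, hQ₂a, hQ₂r⟩ := hF' Q₁ hQ₁S
  obtain ⟨β, hβ, χ', hχ', hχ're, hχ'e, hext⟩ := exists_mod_extender hS hχ hχr hQ₂a
  obtain ⟨ρ, hρ, hρe⟩ := hQ₂r.2 Q₁ χ' hχ' hχ're
  -- ρ restricted to N_S(Q₁)
  have hρN : ρ.comp (Subgroup.inclusion hext) ∈ F'.Hom (normalizerIn S Q₁) := restrict_mem hρ hext
  set ρ' := ρ.comp (Subgroup.inclusion hext) with hρ'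
  have hρ'e : ∀ (x : Ω) (hx : x ∈ Q₁), ρ' ⟨x, le_normalizerIn hQ₁S hx⟩ = χ' ⟨x, hx⟩ :=
    fun x hx => hρe x hx _
  have hψN : ∀ y : R, ψ y ∈ normalizerIn S Q₁ := fun y =>
    apply_mem_normalizerIn (P := Q) (Q := Q₁) (φ := ψ₀) hψ hQR hN rfl (fun _ _ => rfl) y
  -- τ = ρ' ψ : R → S, in F
  obtain ⟨τ, hτ, hτe⟩ := exists_comp hψ (hle _ hρN) hψN
  -- ω = χ' ψ₀ : Q → Q₂, in F'
  obtain ⟨ω, hω, hωe⟩ := exists_comp hψQ hχ' (fun x => (⟨x, rfl⟩ : ψ₀ x ∈ ψ₀.range))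
  have hωr : ω.range = Q₂ := by
    rw [← hχ're]
    ext z
    constructor
    · rintro ⟨x, rfl⟩
      exact ⟨_, (hωe x).symm⟩
    · rintro ⟨⟨_, x, rfl⟩, rfl⟩
      exact ⟨x, hωe x⟩
  have hτω : ∀ (x : Ω) (hx : x ∈ Q), τ ⟨x, hQR hx⟩ = ω ⟨x, hx⟩ := by
    intro x hx
    rw [hτe, hωe]
    exact hρ'e _ _
  have hRE : R ≤ extender S Q ω :=
    le_extender_of_extends hQR hRS hN (hom_apply_mem hτ) hτω
  obtain ⟨σ, hσ, hσe⟩ := hQ₂r.2 Q ω hω hωr
  have hσR : σ.comp (Subgroup.inclusion hRE) ∈ F'.Hom R := restrict_mem hσ hRE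
  set σ' := σ.comp (Subgroup.inclusion hRE) with hσ'
  have hσ'e : ∀ (x : Ω) (hx : x ∈ Q), σ' ⟨x, hQR hx⟩ = ω ⟨x, hx⟩ := fun x hx => hσe x hx _
  obtain ⟨z, hz, -, hze⟩ := exists_conj_of_agree_on_centric hS hF hQ hQR (hle _ hσR) hτ
    (fun x hx => by rw [hσ'e x hx, hτω x hx])
  have hzR : z ∈ R := hQR hz
  have hczR : ∀ x : R, conjHom R z x ∈ R := fun x => R.mul_mem (R.mul_mem hzR x.2) (R.inv_mem hzR)
  have hτ' : τ ∈ F'.Hom R := by
    obtain ⟨τ', hτ', hτ'e⟩ := exists_comp (F'.conj_mem hRS (hRS hzR)) hσR hczR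
    refine mem_of_apply_eq hτ' fun x => ?_
    rw [hτ'e]
    exact hze x _
  -- ψ = ρ'⁻¹ τ
  obtain ⟨ρi, hρi, -, hρi1, -⟩ := exists_inv hρN rfl
  have hτm : ∀ x : R, τ x ∈ ρ'.range := fun x => by
    rw [hτe]
    exact ⟨_, rfl⟩
  obtain ⟨κ, hκ, hκe⟩ := exists_comp hτ' hρi hτm
  refine mem_of_apply_eq hκ fun x => ?_
  rw [hκe]
  have e1 : (⟨τ x, hτm x⟩ : ρ'.range) = ⟨ρ' ⟨ψ x, hψN x⟩, ⟨_, rfl⟩⟩ := Subtype.ext (hτe x)
  rw [e1]
  exact (hρi1 ⟨ψ x, hψN x⟩ _).symm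

/-- For saturated `F' ≤ F` over the same `S`: a map of `F` whose restriction to an `F`-centric subgroup of its
source is a map of `F'`, is a map of `F'`. -/
theorem mem_of_restrict_centric {p : ℕ} [Fact p.Prime] [Finite S]
    (hS : IsPGroup p S) {F F' : FusionSystem S} (hF : F.IsSaturated p) (hF' : F'.IsSaturated p)
    (hle : F' ≤ F) {Q R : Subgroup Ω} (hQ : F.IsCentric Q) (hQR : Q ≤ R)
    {ψ : R →* Ω} (hψ : ψ ∈ F.Hom R)
    (hψQ : ψ.comp (Subgroup.inclusion hQR) ∈ F'.Hom Q) : ψ ∈ F'.Hom R := by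
  have hRS : R ≤ S := hom_le hψ
  have hfinR : Finite R := finite_of_le hRS
  have main : ∀ n : ℕ, ∀ (Q : Subgroup Ω) (hQR : Q ≤ R), F.IsCentric Q →
      ψ.comp (Subgroup.inclusion hQR) ∈ F'.Hom Q → Nat.card R - Nat.card Q = n →
      ψ ∈ F'.Hom R := by
    intro n
    induction n using Nat.strong_induction_on with
    | _ n ih =>
    intro Q hQR hQ hψQ hn
    by_cases hQeq : Q = R
    · subst hQeq
      exact mem_of_apply_eq hψQ fun x => rfl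
    · set N := R ⊓ Subgroup.normalizer (Q : Set Ω) with hN
      have hQN : Q < N := lt_inf_normalizer hS hQR hRS hQeq
      have hNR : N ≤ R := inf_le_left
      have hfinN : Finite N := finite_of_le (hNR.trans hRS)
      have hcard : Nat.card Q < Nat.card N := by
        refine lt_of_le_of_ne (Nat.card_mono (Set.toFinite _) hQN.le) fun heq => ?_
        exact hQN.ne (Subgroup.eq_of_le_of_card_ge hQN.le heq.ge)
      have hcard2 : Nat.card N ≤ Nat.card R := Nat.card_mono (Set.toFinite _) hNR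
      refine ih (Nat.card R - Nat.card N) (by omega) N hNR
        (isCentric_of_le hQ hQN.le (hNR.trans hRS)) ?_ rfl
      exact mem_of_restrict_centric_normal hS hF hF' hle hQ hQN.le inf_le_right
        (restrict_mem hψ hNR) hψQ
  exact main _ Q hQR hQ hψQ rfl

end Cfsg.Agent.H802
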