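import Cfsg.Agent.H802.FusBasic
set_option linter.all false

/-!
# Saturated fusion systems: extension of maps (helper802)
-/

set_option autoImplicit false

namespace Cfsg.Agent.H802

open Cfsg Cfsg.FusionSystem

variable {Ω : Type*} [Group Ω] {S : Subgroup Ω}

/-! ### Transport of automorphisms through an isomorphism of the system -/

theorem congr_mem_autGroup {F : FusionSystem S} {P Q : Subgroup Ω} {φ : P →* Ω} (h : φ ∈ F.Hom P)
    (hQ : φ.range = Q) {α : MulAut P} (hα : α ∈ F.autGroup P) :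
    MulAut.congr (isoOf φ (F.injective_of_mem h) hQ) α ∈ F.autGroup Q := by
  have hQS : Q ≤ S := by
    rw [← hQ]
    exact range_le_of_mem h
  rw [mem_autGroup_iff F hQS]
  rw [mem_autGroup_iff F (hom_le h)] at hα
  obtain ⟨ψ, hψ, hψr, h1, h2⟩ := exists_inv h hQ
  have hψP : ∀ y : Q, ψ y ∈ P := fun y => by
    rw [← hψr]
    exact ⟨y, rfl⟩
  obtain ⟨χ, hχ, hχe⟩ := exists_comp hψ hα hψP
  have hχP : ∀ y : Q, χ y ∈ P := fun y => by
    rw [hχe]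
    exact (α _).2
  obtain ⟨ω, hω, hωe⟩ := exists_comp hχ h hχP
  refine mem_of_apply_eq hω (fun y => ?_)
  rw [hωe]
  show φ (α ((isoOf φ (F.injective_of_mem h) hQ).symm y)) = φ ⟨χ y, hχP y⟩
  congr 1
  apply Subtype.ext
  show ((α ((isoOf φ (F.injective_of_mem h) hQ).symm y) : P) : Ω) = χ y
  rw [hχe]
  show _ = ((α ⟨ψ y, hψP y⟩ : P) : Ω)
  congr 2
  apply F.injective_of_mem h
  rw [isoOf_symm_apply, h2]

theorem congr_mem_autGroup_iff {F : FusionSystem S} {P Q : Subgroup Ω} {φ : P →* Ω}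
    (h : φ ∈ F.Hom P) (hQ : φ.range = Q) {α : MulAut P} :
    MulAut.congr (isoOf φ (F.injective_of_mem h) hQ) α ∈ F.autGroup Q ↔ α ∈ F.autGroup P := by
  refine ⟨fun hα => ?_, congr_mem_autGroup h hQ⟩
  obtain ⟨ψ, hψ, hψr, h1, h2⟩ := exists_inv h hQ
  have := congr_mem_autGroup hψ hψr hα
  convert this using 1
  apply MulEquiv.ext
  intro x
  have key : ∀ x : P, (isoOf ψ (F.injective_of_mem hψ) hψr).symm x =
      isoOf φ (F.injective_of_mem h) hQ x := by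
    intro x
    apply F.injective_of_mem hψ
    rw [isoOf_symm_apply]
    exact (h1 x (isoOf φ (F.injective_of_mem h) hQ x).2).symm
  have key2 : ∀ y : Q, isoOf ψ (F.injective_of_mem hψ) hψr y =
      (isoOf φ (F.injective_of_mem h) hQ).symm y := by
    intro y
    apply F.injective_of_mem h
    rw [isoOf_symm_apply]
    exact h2 y (isoOf ψ (F.injective_of_mem hψ) hψr y).2
  show α x = isoOf ψ (F.injective_of_mem hψ) hψr
    ((isoOf φ (F.injective_of_mem h) hQ) (α ((isoOf φ (F.injective_of_mem h) hQ).symm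
      ((isoOf ψ (F.injective_of_mem hψ) hψr).symm x))))
  rw [key, MulEquiv.symm_apply_apply, key2, MulEquiv.symm_apply_apply]

/-! ### The Sylow trick -/

/-- If `Q` is fully automized and `φ : P → Q` is an isomorphism of the system, then after composing `φ` with
an element of `Aut_F(Q)`, it carries `Aut_S(P)` into `Aut_S(Q)`. -/
theorem exists_aut_conj_le {p : ℕ} [Fact p.Prime] [Finite S] (hS : IsPGroup p S)
    {F : FusionSystem S} {P Q : Subgroup Ω} {φ : P →* Ω} (hφ : φ ∈ F.Hom P) (hφQ : φ.range = Q)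
    (hQ : F.IsFullyAutomized p Q) :
    ∃ β ∈ F.autGroup Q, ∀ α ∈ autInducedBy S P,
      β * (MulAut.congr (isoOf φ (F.injective_of_mem hφ) hφQ) α) * β⁻¹ ∈ autInducedBy S Q := by
  obtain ⟨hQS, R, hR⟩ := hQ
  have : Finite Q := finite_of_le hQS
  have : Finite (MulAut Q) := inferInstance
  have hPS : P ≤ S := hom_le hφ
  set e := MulAut.congr (isoOf φ (F.injective_of_mem hφ) hφQ) with he
  set B : Subgroup (F.autGroup Q) :=
    ((autInducedBy S P).map e.toMonoidHom).subgroupOf (F.autGroup Q) with hB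
  have hBp : IsPGroup p B := by
    have h1 : IsPGroup p ((autInducedBy S P).map e.toMonoidHom) :=
      (isPGroup_autInducedBy hS P).map _
    exact h1.comap_of_injective _ (Subgroup.subtype_injective _)
  obtain ⟨R', hR'⟩ := hBp.exists_le_sylow
  obtain ⟨b, hb⟩ := MulAction.exists_smul_eq (F.autGroup Q) R' R
  refine ⟨b, b.2, fun α hα => ?_⟩
  have h1 : e α ∈ F.autGroup Q := congr_mem_autGroup hφ hφQ (autInducedBy_le_autGroup F hPS hα)
  have h2 : (⟨e α, h1⟩ : F.autGroup Q) ∈ B := by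
    rw [hB, Subgroup.mem_subgroupOf]
    exact ⟨α, hα, rfl⟩
  have h3 : b * ⟨e α, h1⟩ * b⁻¹ ∈ (R : Subgroup (F.autGroup Q)) := by
    rw [← hb]
    exact Subgroup.smul_mem_pointwise_smul (⟨e α, h1⟩ : F.autGroup Q) (MulAut.conj b)
      (R' : Subgroup (F.autGroup Q)) (hR' h2)
  rw [hR, Subgroup.mem_subgroupOf] at h3
  exact h3

/-- If `Q` is fully automized and `φ : P → Q` is an isomorphism of the system, then after composing `φ` with
an element of `Aut_F(Q)`, its extender is all of `N_S(P)`. -/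
theorem exists_mod_extender {p : ℕ} [Fact p.Prime] [Finite S] (hS : IsPGroup p S)
    {F : FusionSystem S} {P Q : Subgroup Ω} {φ : P →* Ω} (hφ : φ ∈ F.Hom P) (hφQ : φ.range = Q)
    (hQ : F.IsFullyAutomized p Q) :
    ∃ β ∈ F.autGroup Q, ∃ φ' ∈ F.Hom P, φ'.range = Q ∧
      (∀ (x : P) (hx : φ x ∈ Q), φ' x = (β ⟨φ x, hx⟩ : Q)) ∧
      normalizerIn S P ≤ extender S P φ' := by
  obtain ⟨β, hβ, hβe⟩ := exists_aut_conj_le hS hφ hφQ hQ
  have hPS : P ≤ S := hom_le hφ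
  have hQS : Q ≤ S := hQ.1
  have hφmem : ∀ x : P, φ x ∈ Q := fun x => by
    rw [← hφQ]
    exact ⟨x, rfl⟩
  obtain ⟨φ', hφ', hφ'e⟩ := exists_comp hφ ((mem_autGroup_iff F hQS β).1 hβ) hφmem
  have hφ'x : ∀ x : P, φ' x = (β ⟨φ x, hφmem x⟩ : Q) := fun x => hφ'e x
  refine ⟨β, hβ, φ', hφ', ?_, fun x hx => hφ'x x, ?_⟩
  · ext z
    constructor
    · rintro ⟨x, rfl⟩
      rw [hφ'x]
      exact (β _).2
    · intro hz
      have hw : ((β.symm ⟨z, hz⟩ : Q) : Ω) ∈ φ.range := by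
        rw [hφQ]
        exact (β.symm ⟨z, hz⟩).2
      obtain ⟨x, hx⟩ := hw
      refine ⟨x, ?_⟩
      rw [hφ'x]
      have : (⟨φ x, hφmem x⟩ : Q) = β.symm ⟨z, hz⟩ := Subtype.ext hx
      rw [this, MulEquiv.apply_symm_apply]
  · intro g hg
    rw [mem_extender_iff]
    refine ⟨hg.1, hg.2, ?_⟩
    obtain ⟨α, hα⟩ := exists_conjAut hg.2
    have hαm : α ∈ autInducedBy S P := (mem_autInducedBy_iff S P α).2 ⟨g, hg.1, hα⟩
    obtain ⟨k, hk, hke⟩ := (mem_autInducedBy_iff S Q _).1 (hβe α hαm)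
    refine ⟨k, hk, fun x hx => ?_⟩
    have h1 := hke (β ⟨φ x, hφmem x⟩)
    rw [hφ'x, hφ'x, ← h1]
    rw [MulAut.mul_apply, MulAut.mul_apply]
    have h2 : β⁻¹ (β ⟨φ x, hφmem x⟩) = (⟨φ x, hφmem x⟩ : Q) := β.symm_apply_apply _
    rw [h2]
    congr 2
    apply Subtype.ext
    show φ _ = φ (α ((isoOf φ (F.injective_of_mem hφ) hφQ).symm ⟨φ x, hφmem x⟩))
    congr 1
    have h3 : (isoOf φ (F.injective_of_mem hφ) hφQ).symm ⟨φ x, hφmem x⟩ = x :=
      (isoOf φ (F.injective_of_mem hφ) hφQ).symm_apply_apply x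
    rw [h3]
    exact Subtype.ext (hα x).symm

theorem le_normalizerIn {P : Subgroup Ω} (hP : P ≤ S) : P ≤ normalizerIn S P :=
  le_inf hP Subgroup.le_normalizer

/-- Extension of a map `φ : P → Q` with `Q` fully automized and receptive, after composing with an element of
`Aut_F(Q)`, to all of `N_S(P)`. -/
theorem exists_mod_extension {p : ℕ} [Fact p.Prime] [Finite S] (hS : IsPGroup p S)
    {F : FusionSystem S} {P Q : Subgroup Ω} {φ : P →* Ω} (hφ : φ ∈ F.Hom P) (hφQ : φ.range = Q)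
    (hQ : F.IsFullyAutomized p Q) (hQr : F.IsReceptive Q) :
    ∃ β ∈ F.autGroup Q, ∃ ψ ∈ F.Hom (normalizerIn S P),
      (∀ (x : P) (hx : φ x ∈ Q) (hx' : (x : Ω) ∈ normalizerIn S P),
        ψ ⟨x, hx'⟩ = (β ⟨φ x, hx⟩ : Q)) ∧
      ∀ y : normalizerIn S P, ψ y ∈ normalizerIn S Q := by
  obtain ⟨β, hβ, φ', hφ', hr, he, hN⟩ := exists_mod_extender hS hφ hφQ hQ
  obtain ⟨ψ, hψ, hψe⟩ := hQr.2 P φ' hφ' hr
  have hPS : P ≤ S := hom_le hφ
  refine ⟨β, hβ, _, restrict_mem hψ hN, ?_, ?_⟩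
  · intro x hx hx'
    rw [← he x hx]
    exact hψe x x.2 (hN hx')
  · intro y
    refine ⟨hom_apply_mem (restrict_mem hψ hN) y, ?_⟩
    have hval : ∀ x : P, ((ψ.comp (Subgroup.inclusion hN)) ⟨x, le_normalizerIn hPS x.2⟩ : Ω) =
        φ' x := fun x => hψe x x.2 _
    -- conjugation by ψ y preserves Q
    have h1 : ∀ (y : normalizerIn S P) (z : Ω), z ∈ Q →
        (ψ.comp (Subgroup.inclusion hN)) y * z * ((ψ.comp (Subgroup.inclusion hN)) y)⁻¹ ∈ Q := by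
      intro y z hz
      have hz' : z ∈ φ'.range := by rw [hr]; exact hz
      obtain ⟨x, rfl⟩ := hz'
      rw [← hval x, ← map_inv, ← map_mul, ← map_mul]
      have hyx : (y : Ω) * x * (y : Ω)⁻¹ ∈ P := (Subgroup.mem_normalizer_iff.1 y.2.2 x).1 x.2
      have h2 := hval ⟨_, hyx⟩
      have h3 : (y * ⟨(x : Ω), le_normalizerIn hPS x.2⟩ * y⁻¹ : normalizerIn S P) =
          ⟨(y : Ω) * x * (y : Ω)⁻¹, le_normalizerIn hPS hyx⟩ := rfl
      rw [h3]
      have h4 : (ψ.comp (Subgroup.inclusion hN)) ⟨(y : Ω) * x * (y : Ω)⁻¹, le_normalizerIn hPS hyx⟩ =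
        φ' ⟨_, hyx⟩ := h2
      rw [h4, ← hr]
      exact ⟨_, rfl⟩
    refine Subgroup.mem_normalizer_iff.2 fun z => ?_
    refine ⟨h1 y z, fun hz => ?_⟩
    have := h1 y⁻¹ _ hz
    rw [map_inv] at this
    simpa [mul_assoc] using this

/-! ### Images of normalizers and centralizers -/

/-- If `ψ` on `R ≤ N(P)` extends `φ` with `φ(P) = Q` then `ψ` has values in `N_S(Q)`. -/
theorem apply_mem_normalizerIn {F : FusionSystem S} {P Q R : Subgroup Ω} {φ : P →* Ω}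
    {ψ : R →* Ω} (hψ : ψ ∈ F.Hom R) (hPR : P ≤ R) (hRN : R ≤ Subgroup.normalizer (P : Set Ω))
    (hφQ : φ.range = Q) (he : ∀ (x : Ω) (hx : x ∈ P), ψ ⟨x, hPR hx⟩ = φ ⟨x, hx⟩) (y : R) :
    ψ y ∈ normalizerIn S Q := by
  refine ⟨hom_apply_mem hψ y, ?_⟩
  have h1 : ∀ (y : R) (z : Ω), z ∈ Q → ψ y * z * (ψ y)⁻¹ ∈ Q := by
    intro y z hz
    rw [← hφQ] at hz
    obtain ⟨x, rfl⟩ := hz
    have hyx : (y : Ω) * x * (y : Ω)⁻¹ ∈ P := (Subgroup.mem_normalizer_iff.1 (hRN y.2) x).1 x.2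
    have e1 : ψ ⟨(x : Ω), hPR x.2⟩ = φ x := he x x.2
    have e2 := he _ hyx
    have e3 : (y * ⟨(x : Ω), hPR x.2⟩ * y⁻¹ : R) = ⟨(y : Ω) * x * (y : Ω)⁻¹, hPR hyx⟩ := rfl
    rw [← e1, ← map_inv, ← map_mul, ← map_mul, e3, e2, ← hφQ]
    exact ⟨_, rfl⟩
  refine Subgroup.mem_normalizer_iff.2 fun z => ⟨h1 y z, fun hz => ?_⟩
  have := h1 y⁻¹ _ hz
  rw [map_inv] at this
  simpa [mul_assoc] using this

/-- If `ψ` on `R` extends `φ` with `φ(P) = Q` then `ψ` carries elements of `R` centralizing `P` into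
`C_S(Q)`. -/
theorem apply_mem_centralizerIn {F : FusionSystem S} {P Q R : Subgroup Ω} {φ : P →* Ω}
    {ψ : R →* Ω} (hψ : ψ ∈ F.Hom R) (hPR : P ≤ R)
    (hφQ : φ.range = Q) (he : ∀ (x : Ω) (hx : x ∈ P), ψ ⟨x, hPR hx⟩ = φ ⟨x, hx⟩) (y : R)
    (hy : (y : Ω) ∈ Subgroup.centralizer (P : Set Ω)) : ψ y ∈ centralizerIn S Q := by
  refine ⟨hom_apply_mem hψ y, ?_⟩
  refine Subgroup.mem_centralizer_iff.2 fun z hz => ?_
  rw [← hφQ] at hz
  obtain ⟨x, rfl⟩ := hz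
  have e1 : ψ ⟨(x : Ω), hPR x.2⟩ = φ x := he x x.2
  rw [← e1, ← map_mul, ← map_mul]
  congr 1
  apply Subtype.ext
  exact Subgroup.mem_centralizer_iff.1 hy x x.2

theorem centralizerIn_le_normalizerIn (S P : Subgroup Ω) : centralizerIn S P ≤ normalizerIn S P :=
  inf_le_inf_left _ (Subgroup.centralizer_le_normalizer _)

/-- An injective homomorphism carrying `A` into `B` gives a card inequality. -/
theorem card_le_of_maps {R A B : Subgroup Ω} [Finite B] {ψ : R →* Ω} (hψ : Function.Injective ψ)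
    (hAR : A ≤ R) (h : ∀ (x : Ω) (hx : x ∈ A), ψ ⟨x, hAR hx⟩ ∈ B) : Nat.card A ≤ Nat.card B := by
  refine Nat.card_le_card_of_injective (fun x : A => (⟨ψ ⟨x, hAR x.2⟩, h x x.2⟩ : B)) ?_
  intro x y hxy
  have h1 : ψ ⟨x, hAR x.2⟩ = ψ ⟨y, hAR y.2⟩ := congrArg Subtype.val hxy
  have h2 := congrArg Subtype.val (hψ h1)
  exact Subtype.ext h2

/-- Surjectivity from a card inequality. -/
theorem exists_preimage_of_card {R A B : Subgroup Ω} [Finite B] {ψ : R →* Ω}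
    (hψ : Function.Injective ψ) (hAR : A ≤ R) (h : ∀ (x : Ω) (hx : x ∈ A), ψ ⟨x, hAR hx⟩ ∈ B)
    (hc : Nat.card B ≤ Nat.card A) (b : Ω) (hb : b ∈ B) :
    ∃ (x : Ω) (hx : x ∈ A), ψ ⟨x, hAR hx⟩ = b := by
  have hinj : Function.Injective (fun x : A => (⟨ψ ⟨x, hAR x.2⟩, h x x.2⟩ : B)) := by
    intro x y hxy
    have h1 : ψ ⟨x, hAR x.2⟩ = ψ ⟨y, hAR y.2⟩ := congrArg Subtype.val hxy
    have h2 := congrArg Subtype.val (hψ h1)
    exact Subtype.ext h2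
  have hA : Finite A := Finite.of_injective _ hinj
  have heq : Nat.card A = Nat.card B := le_antisymm (card_le_of_maps hψ hAR h) hc
  have hbij := (Nat.bijective_iff_injective_and_card _).2 ⟨hinj, heq⟩
  obtain ⟨x, hx⟩ := hbij.2 ⟨b, hb⟩
  exact ⟨x, x.2, congrArg Subtype.val hx⟩

/-! ### Fully centralized, fully normalized, receptive, fully automized -/

theorem isFullyCentralized_of_isReceptive [Finite S] {F : FusionSystem S} {Q : Subgroup Ω}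
    (hQ : F.IsReceptive Q) : F.IsFullyCentralized Q := by
  refine ⟨hQ.1, fun P hPQ => ?_⟩
  obtain ⟨φ, hφ, hφQ⟩ := isConj_symm hPQ
  obtain ⟨ψ, hψ, hψe⟩ := hQ.2 P φ hφ hφQ
  have hPS : P ≤ S := hom_le hφ
  have hPE : P ≤ extender S P φ := le_extender hPS (hom_apply_mem hφ)
  have : Finite (centralizerIn S Q) := finite_of_le inf_le_left
  refine card_le_of_maps (F.injective_of_mem hψ) (centralizerIn_le_extender S P φ) ?_
  intro x hx
  exact apply_mem_centralizerIn hψ hPE hφQ (fun x hx => hψe x hx _) _ hx.2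

theorem isFullyNormalized_of_automized_receptive {p : ℕ} [Fact p.Prime] [Finite S]
    (hS : IsPGroup p S) {F : FusionSystem S} {Q : Subgroup Ω} (hQa : F.IsFullyAutomized p Q)
    (hQ : F.IsReceptive Q) : F.IsFullyNormalized Q := by
  refine ⟨hQ.1, fun P hPQ => ?_⟩
  obtain ⟨φ, hφ, hφQ⟩ := isConj_symm hPQ
  obtain ⟨β, hβ, ψ, hψ, -, h⟩ := exists_mod_extension hS hφ hφQ hQa hQ
  have : Finite (normalizerIn S Q) := finite_of_le inf_le_left
  exact card_le_of_maps (F.injective_of_mem hψ) le_rfl (fun x hx => h _)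

/-- In a saturated system every fully centralized subgroup is receptive. -/
theorem isReceptive_of_isFullyCentralized {p : ℕ} [Fact p.Prime] [Finite S]
    (hS : IsPGroup p S) {F : FusionSystem S} (hF : F.IsSaturated p) {Q : Subgroup Ω}
    (hQ : F.IsFullyCentralized Q) : F.IsReceptive Q := by
  obtain ⟨Q₀, hc, hQa, hQr⟩ := hF Q hQ.1
  refine ⟨hQ.1, fun P χ hχ hχQ => ?_⟩
  obtain ⟨φ, hφ, hφQ⟩ := hc
  obtain ⟨β, hβ, φ', hφ', hr, he, hN⟩ := exists_mod_extender hS hφ hφQ hQa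
  obtain ⟨ψ, hψ, hψe⟩ := hQr.2 Q φ' hφ' hr
  have hQS : Q ≤ S := hQ.1
  have hPS : P ≤ S := hom_le hχ
  have hQE : Q ≤ extender S Q φ' := le_extender hQS (hom_apply_mem hφ')
  have hfin : Finite (centralizerIn S Q₀) := finite_of_le inf_le_left
  have hfin2 : Finite (extender S Q φ') := finite_of_le (extender_le _ _ _)
  -- ψ carries C_S(Q) onto C_S(Q₀)
  have hCsurj : ∀ b ∈ centralizerIn S Q₀, ∃ (x : Ω) (hx : x ∈ centralizerIn S Q),
      ψ ⟨x, centralizerIn_le_extender S Q φ' hx⟩ = b := by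
    intro b hb
    refine exists_preimage_of_card (F.injective_of_mem hψ) (centralizerIn_le_extender S Q φ') ?_
      (hQ.2 Q₀ ⟨φ, hφ, hφQ⟩) b hb
    intro x hx
    exact apply_mem_centralizerIn hψ hQE hr (fun x hx => hψe x hx _) _ hx.2
  -- the composite φ' χ
  have hχmem : ∀ x : P, χ x ∈ Q := fun x => by
    rw [← hχQ]
    exact ⟨x, rfl⟩
  obtain ⟨ω, hω, hωe⟩ := exists_comp hχ hφ' hχmem
  have hωr : ω.range = Q₀ := by
    rw [← hr]
    ext z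
    constructor
    · rintro ⟨x, rfl⟩
      exact ⟨_, (hωe x).symm⟩
    · rintro ⟨y, rfl⟩
      have hy : (y : Ω) ∈ χ.range := by
        rw [hχQ]
        exact y.2
      obtain ⟨x, hx⟩ := hy
      refine ⟨x, ?_⟩
      rw [hωe]
      congr 1
      exact Subtype.ext hx
  obtain ⟨ρ, hρ, hρe⟩ := hQr.2 P ω hω hωr
  have hPE : P ≤ extender S P ω := le_extender hPS (hom_apply_mem hω)
  have hPEχ : P ≤ extender S P χ := le_extender hPS (hom_apply_mem hχ)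
  -- N_χ ≤ N_ω, and ρ maps N_χ into ψ(N_S(Q))
  have hmain : ∀ g ∈ extender S P χ, ∃ (hg : g ∈ extender S P ω), ∃ (y : Ω)
      (hy : y ∈ extender S Q φ'), ρ ⟨g, hg⟩ = ψ ⟨y, hy⟩ := by
    intro g hg
    obtain ⟨hgS, hgN, h, hhS, hh⟩ := (mem_extender_iff S P χ g).1 hg
    -- h normalizes Q
    have hhQ : ∀ z ∈ Q, h * z * h⁻¹ ∈ Q := by
      intro z hz
      rw [← hχQ] at hz
      obtain ⟨x, rfl⟩ := hz
      have hx : g * (x : Ω) * g⁻¹ ∈ P := (Subgroup.mem_normalizer_iff.1 hgN x).1 x.2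
      rw [← hh x hx]
      exact hχmem _
    have hhN : h ∈ Subgroup.normalizer (Q : Set Ω) := by
      have hfinQ : Finite Q := finite_of_le hQS
      have hle : Q.map (MulAut.conj h).toMonoidHom ≤ Q := by
        rintro _ ⟨z, hz, rfl⟩
        exact hhQ z hz
      have hcard : Nat.card (Q.map (MulAut.conj h).toMonoidHom) = Nat.card Q :=
        Nat.card_congr (Q.equivMapOfInjective _ (MulAut.conj h).injective).symm.toEquiv
      have heq : Q.map (MulAut.conj h).toMonoidHom = Q :=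
        Subgroup.eq_of_le_of_card_ge hle hcard.ge
      refine Subgroup.mem_normalizer_iff.2 fun z => ⟨hhQ z, fun hz => ?_⟩
      have hz' : h * z * h⁻¹ ∈ Q.map (MulAut.conj h).toMonoidHom := by
        rw [heq]
        exact hz
      obtain ⟨w, hw, hwe⟩ := hz'
      have : h * w * h⁻¹ = h * z * h⁻¹ := hwe
      have hwz : w = z := mul_left_cancel (mul_right_cancel this)
      rw [← hwz]
      exact hw
    have hhE : h ∈ extender S Q φ' := hN ⟨hhS, hhN⟩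
    have hgE : g ∈ extender S P ω := by
      rw [mem_extender_iff]
      refine ⟨hgS, hgN, ψ ⟨h, hhE⟩, hom_apply_mem hψ _, fun x hx => ?_⟩
      rw [hωe, hωe]
      have e1 := hh x hx
      have e2 : φ' ⟨χ ⟨g * ↑x * g⁻¹, hx⟩, hχmem _⟩ = ψ ⟨χ ⟨g * ↑x * g⁻¹, hx⟩, hQE (hχmem _)⟩ :=
        (hψe _ _ _).symm
      have e3 : φ' ⟨χ x, hχmem _⟩ = ψ ⟨χ x, hQE (hχmem _)⟩ := (hψe _ _ _).symm
      rw [e2, e3, ← map_inv, ← map_mul, ← map_mul]
      congr 1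
      apply Subtype.ext
      exact e1
    -- ρ g and ψ h differ by an element of C_S(Q₀)
    have hc : (ψ ⟨h, hhE⟩)⁻¹ * ρ ⟨g, hgE⟩ ∈ centralizerIn S Q₀ := by
      refine ⟨S.mul_mem (S.inv_mem (hom_apply_mem hψ _)) (hom_apply_mem hρ _), ?_⟩
      refine Subgroup.mem_centralizer_iff.2 fun z hz => ?_
      rw [← hωr] at hz
      obtain ⟨x, rfl⟩ := hz
      have hx : g * (x : Ω) * g⁻¹ ∈ P := (Subgroup.mem_normalizer_iff.1 hgN x).1 x.2
      have e1 := hh x hx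
      -- ρ(g) ω(x) ρ(g)⁻¹ = ω(gxg⁻¹) = ψ(h) ω(x) ψ(h)⁻¹
      have e2 : ρ ⟨g, hgE⟩ * ω x * (ρ ⟨g, hgE⟩)⁻¹ = ω ⟨g * x * g⁻¹, hx⟩ := by
        have a1 : ω x = ρ ⟨x, hPE x.2⟩ := (hρe _ _ _).symm
        have a2 : ω ⟨g * x * g⁻¹, hx⟩ = ρ ⟨g * x * g⁻¹, hPE hx⟩ := (hρe _ _ _).symm
        rw [a1, a2, ← map_inv, ← map_mul, ← map_mul]
        rfl
      have e4 : ω ⟨g * x * g⁻¹, hx⟩ = ψ ⟨h, hhE⟩ * ω x * (ψ ⟨h, hhE⟩)⁻¹ := by
        rw [hωe, hωe]
        have b2 : φ' ⟨χ ⟨g * ↑x * g⁻¹, hx⟩, hχmem _⟩ = ψ ⟨χ ⟨g * ↑x * g⁻¹, hx⟩, hQE (hχmem _)⟩ :=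
          (hψe _ _ _).symm
        have b3 : φ' ⟨χ x, hχmem _⟩ = ψ ⟨χ x, hQE (hχmem _)⟩ := (hψe _ _ _).symm
        rw [b2, b3, ← map_inv, ← map_mul, ← map_mul]
        congr 1
        apply Subtype.ext
        exact e1
      have e5 : ρ ⟨g, hgE⟩ * ω x * (ρ ⟨g, hgE⟩)⁻¹ = ψ ⟨h, hhE⟩ * ω x * (ψ ⟨h, hhE⟩)⁻¹ :=
        e2.trans e4
      calc ω x * ((ψ ⟨h, hhE⟩)⁻¹ * ρ ⟨g, hgE⟩)
          = (ψ ⟨h, hhE⟩)⁻¹ * (ψ ⟨h, hhE⟩ * ω x * (ψ ⟨h, hhE⟩)⁻¹) * ρ ⟨g, hgE⟩ := by group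
        _ = (ψ ⟨h, hhE⟩)⁻¹ * (ρ ⟨g, hgE⟩ * ω x * (ρ ⟨g, hgE⟩)⁻¹) * ρ ⟨g, hgE⟩ := by rw [e5]
        _ = (ψ ⟨h, hhE⟩)⁻¹ * ρ ⟨g, hgE⟩ * ω x := by group
    obtain ⟨c, hcC, hce⟩ := hCsurj _ hc
    refine ⟨hgE, h * c, (extender S Q φ').mul_mem hhE (centralizerIn_le_extender S Q φ' hcC), ?_⟩
    have : (⟨h * c, (extender S Q φ').mul_mem hhE (centralizerIn_le_extender S Q φ' hcC)⟩ :
        extender S Q φ') = ⟨h, hhE⟩ * ⟨c, centralizerIn_le_extender S Q φ' hcC⟩ := rfl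
    rw [this, map_mul, hce]
    group
  have hle : extender S P χ ≤ extender S P ω := fun g hg => (hmain g hg).1
  -- the inverse of ψ
  obtain ⟨ψi, hψi, -, hψi1, -⟩ := exists_inv hψ rfl
  have hρmem : ∀ x : extender S P χ, (ρ.comp (Subgroup.inclusion hle)) x ∈ ψ.range := by
    intro x
    obtain ⟨hg, y, hy, he⟩ := hmain x x.2
    exact ⟨⟨y, hy⟩, he.symm⟩
  obtain ⟨τ, hτ, hτe⟩ := exists_comp (restrict_mem hρ hle) hψi hρmem
  refine ⟨τ, hτ, fun x hP hNx => ?_⟩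
  rw [hτe]
  have e1 : (ρ.comp (Subgroup.inclusion hle)) ⟨x, hNx⟩ = ψ ⟨χ ⟨x, hP⟩, hQE (hχmem _)⟩ := by
    have a1 : (ρ.comp (Subgroup.inclusion hle)) ⟨x, hNx⟩ = ω ⟨x, hP⟩ := hρe x hP _
    rw [a1, hωe]
    exact (hψe _ _ _).symm
  have e2 : (⟨(ρ.comp (Subgroup.inclusion hle)) ⟨x, hNx⟩, hρmem _⟩ : ψ.range) =
      ⟨ψ ⟨χ ⟨x, hP⟩, hQE (hχmem _)⟩, ⟨_, rfl⟩⟩ := Subtype.ext e1
  rw [e2]
  exact hψi1 _ _

end Cfsg.Agent.H802
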