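import Cfsg.Agent.H802.FusCentric
set_option linter.all false

/-!
# Subsystems over the same group: Frattini argument (helper802)
-/

set_option autoImplicit false

namespace Cfsg.Agent.H802

open Cfsg Cfsg.FusionSystem

variable {Ω : Type*} [Group Ω] {S : Subgroup Ω}

theorem autGroup_mono {F F' : FusionSystem S} (hle : F' ≤ F) (P : Subgroup Ω) :
    F'.autGroup P ≤ F.autGroup P :=
  Subgroup.closure_mono fun _ hα => hle P hα

/-- If `Q` is fully automized in `F` then it is fully automized in every subsystem over `S`. -/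
theorem isFullyAutomized_of_le {p : ℕ} [Fact p.Prime] [Finite S] (hS : IsPGroup p S)
    {F F' : FusionSystem S} (hle : F' ≤ F) {Q : Subgroup Ω} (hQ : F.IsFullyAutomized p Q) :
    F'.IsFullyAutomized p Q := by
  have hQS := hQ.1
  have hfin : Finite Q := finite_of_le hQS
  have h1 := (isFullyAutomized_iff_card hS hQS).1 hQ
  rw [isFullyAutomized_iff_card hS hQS, h1]
  have hA : F'.autGroup Q ≤ F.autGroup Q := autGroup_mono hle Q
  have hdvd : Nat.card (F'.autGroup Q) ∣ Nat.card (F.autGroup Q) := Subgroup.card_dvd_of_le hA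
  have hdvd2 : Nat.card (autInducedBy S Q) ∣ Nat.card (F'.autGroup Q) :=
    Subgroup.card_dvd_of_le (autInducedBy_le_autGroup F' hQS)
  rw [h1] at hdvd2
  have hpos : Nat.card (F'.autGroup Q) ≠ 0 := Nat.card_pos.ne'
  have hpos2 : Nat.card (F.autGroup Q) ≠ 0 := Nat.card_pos.ne'
  have hp : p.Prime := Fact.out
  have h2 : (Nat.card (F.autGroup Q)).factorization p ≤
      (Nat.card (F'.autGroup Q)).factorization p :=
    (hp.pow_dvd_iff_le_factorization hpos).1 hdvd2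
  have h3 : (Nat.card (F'.autGroup Q)).factorization p ≤
      (Nat.card (F.autGroup Q)).factorization p :=
    (Nat.factorization_le_iff_dvd hpos hpos2).2 hdvd p
  rw [le_antisymm h2 h3]

theorem congr_isoOf_subtype {Q : Subgroup Ω} (h : Function.Injective Q.subtype)
    (hr : Q.subtype.range = Q) (α : MulAut Q) : MulAut.congr (isoOf Q.subtype h hr) α = α := by
  have key : ∀ x : Q, isoOf Q.subtype h hr x = x := fun x => Subtype.ext rfl
  have key2 : ∀ x : Q, (isoOf Q.subtype h hr).symm x = x := by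
    intro x
    rw [MulEquiv.symm_apply_eq]
    exact (key x).symm
  apply MulEquiv.ext
  intro x
  show isoOf Q.subtype h hr (α ((isoOf Q.subtype h hr).symm x)) = α x
  rw [key, key2]

/-- **Frattini argument**: if `Q` is fully automized in `F`, `F' ≤ F` over the same `S`, and `Aut_{F'}(Q)` is
normalized by `α ∈ Aut_F(Q)`, then for some `β ∈ Aut_{F'}(Q)` the product `β α` normalizes `Aut_S(Q)`. -/
theorem exists_frattini {p : ℕ} [Fact p.Prime] [Finite S] (hS : IsPGroup p S)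
    {F F' : FusionSystem S} (hle : F' ≤ F) {Q : Subgroup Ω} (hQ : F.IsFullyAutomized p Q)
    {α : MulAut Q} (hnorm : ∀ ψ ∈ F'.autGroup Q, α * ψ * α⁻¹ ∈ F'.autGroup Q) :
    ∃ β ∈ F'.autGroup Q, ∀ γ ∈ autInducedBy S Q, (β * α) * γ * (β * α)⁻¹ ∈ autInducedBy S Q := by
  have hQS := hQ.1
  have hQ' := isFullyAutomized_of_le hS hle hQ
  have hB : (autInducedBy S Q).map (MulAut.conj α).toMonoidHom ≤ F'.autGroup Q := by
    rintro _ ⟨γ, hγ, rfl⟩
    exact hnorm γ (autInducedBy_le_autGroup F' hQS hγ)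
  have hBp : IsPGroup p ((autInducedBy S Q).map (MulAut.conj α).toMonoidHom) :=
    (isPGroup_autInducedBy hS Q).map _
  obtain ⟨β, hβ, hβe⟩ := exists_aut_conj_le_of_isPGroup (subtype_mem F' hQS)
    (Subgroup.range_subtype Q) hQ' _ hB hBp
  refine ⟨β, hβ, fun γ hγ => ?_⟩
  have h1 := hβe _ (⟨γ, hγ, rfl⟩ : MulAut.conj α γ ∈
    (autInducedBy S Q).map (MulAut.conj α).toMonoidHom)
  rw [congr_isoOf_subtype, MulAut.conj_apply] at h1
  rw [mul_inv_rev]
  simpa [mul_assoc] using h1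

/-- An automorphism of `Q` normalizing `Aut_S(Q)` has extender `N_S(Q)`. -/
theorem normalizerIn_le_extender_of_normalizes {Q : Subgroup Ω} {γ : MulAut Q}
    (h : ∀ δ ∈ autInducedBy S Q, γ * δ * γ⁻¹ ∈ autInducedBy S Q) :
    normalizerIn S Q ≤ extender S Q (Q.subtype.comp γ.toMonoidHom) := by
  intro g hg
  rw [mem_extender_iff]
  refine ⟨hg.1, hg.2, ?_⟩
  obtain ⟨δ, hδ⟩ := exists_conjAut hg.2
  have hδm : δ ∈ autInducedBy S Q := (mem_autInducedBy_iff S Q δ).2 ⟨g, hg.1, hδ⟩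
  obtain ⟨k, hk, hke⟩ := (mem_autInducedBy_iff S Q _).1 (h δ hδm)
  refine ⟨k, hk, fun x hx => ?_⟩
  have h1 := hke (γ x)
  rw [MulAut.mul_apply, MulAut.mul_apply] at h1
  have h2 : γ⁻¹ (γ x) = x := γ.symm_apply_apply _
  rw [h2] at h1
  show ((γ ⟨g * x * g⁻¹, hx⟩ : Q) : Ω) = k * ((γ x : Q) : Ω) * k⁻¹
  rw [← h1]
  have h3 : (⟨g * x * g⁻¹, hx⟩ : Q) = δ x := Subtype.ext (hδ x).symm
  rw [h3]

/-- An element of `Aut_F(Q)` normalizing `Aut_S(Q)`, with `Q` receptive, extends to `N_S(Q)`. -/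
theorem exists_extension_of_normalizes {F : FusionSystem S} {Q : Subgroup Ω} [Finite Q]
    (hQ : F.IsReceptive Q) {γ : MulAut Q} (hγ : γ ∈ F.autGroup Q)
    (h : ∀ δ ∈ autInducedBy S Q, γ * δ * γ⁻¹ ∈ autInducedBy S Q) :
    ∃ ψ ∈ F.Hom (normalizerIn S Q), ∀ (x : Ω) (hx : x ∈ Q) (hx' : x ∈ normalizerIn S Q),
      ψ ⟨x, hx'⟩ = (γ ⟨x, hx⟩ : Q) := by
  have hγ' := (mem_autGroup_iff F hQ.1 γ).1 hγ
  obtain ⟨ψ, hψ, hψe⟩ := hQ.2 Q _ hγ' (range_eq_of_mapsTo hγ' (fun x => (γ x).2))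
  exact ⟨_, restrict_mem hψ (normalizerIn_le_extender_of_normalizes h),
    fun x hx hx' => hψe x hx _⟩

end Cfsg.Agent.H802
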