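import Cfsg.Agent.H802.FusKGood
set_option linter.all false

/-!
# Saturation of the `K`-normalizer systems `N_F^K(Q)` (helper802)
-/

set_option autoImplicit false

namespace Cfsg.Agent.H802

open Cfsg Cfsg.FusionSystem

/-! ### Two facts on Sylow subgroups -/

section Syl

variable {G G' : Type*} [Group G] [Group G'] {p : ℕ}

theorem card_map_mul_card_inf_ker (f : G →* G') (A : Subgroup G) :
    Nat.card (A.map f) * Nat.card (A ⊓ f.ker : Subgroup G) = Nat.card A := by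
  have h1 : Nat.card (f.comp A.subtype).range * Nat.card (f.comp A.subtype).ker = Nat.card A := by
    rw [← Nat.card_congr (QuotientGroup.quotientKerEquivRange (f.comp A.subtype)).toEquiv]
    rw [Subgroup.card_eq_card_quotient_mul_card_subgroup (f.comp A.subtype).ker]
  rw [MonoidHom.range_comp, Subgroup.range_subtype] at h1
  rw [← h1]
  congr 1
  have h2 : (f.comp A.subtype).ker = (A ⊓ f.ker).subgroupOf A := by
    ext x
    rw [MonoidHom.mem_ker, Subgroup.mem_subgroupOf]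
    exact ⟨fun h => ⟨x.2, h⟩, fun h => h.2⟩
  rw [h2]
  exact (Nat.card_congr (Subgroup.subgroupOfEquivOfLe inf_le_left).toEquiv).symm

/-- Homomorphic images of Sylow subgroups are Sylow. -/
theorem SylIn.map [Fact p.Prime] {T A : Subgroup G} [Finite A] (h : SylIn p T A) (f : G →* G') :
    SylIn p (T.map f) (A.map f) := by
  have hp : p.Prime := Fact.out
  have hfinT : Finite T := Finite.of_injective _ (Subgroup.inclusion_injective h.le)
  have hfinAf : Finite (A.map f) := by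
    have : Finite (f.comp A.subtype).range :=
      Finite.of_surjective _ (f.comp A.subtype).rangeRestrict_surjective
    rwa [MonoidHom.range_comp, Subgroup.range_subtype] at this
  have hfinTk : Finite (T ⊓ f.ker : Subgroup G) :=
    Finite.of_injective _ (Subgroup.inclusion_injective (inf_le_left : T ⊓ f.ker ≤ T))
  have hfinAk : Finite (A ⊓ f.ker : Subgroup G) :=
    Finite.of_injective _ (Subgroup.inclusion_injective (inf_le_left : A ⊓ f.ker ≤ A))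
  refine sylIn_of_card_ge (Subgroup.map_mono h.le) (h.isPGroup.map f) ?_
  have h1 := card_map_mul_card_inf_ker f A
  have h2 := card_map_mul_card_inf_ker f T
  have h3 : Nat.card (T ⊓ f.ker : Subgroup G) ≤
      p ^ (Nat.card (A ⊓ f.ker : Subgroup G)).factorization p :=
    card_le_of_isPGroup (inf_le_inf_right _ h.le) (h.isPGroup.to_le inf_le_left)
  have h4 : (Nat.card A).factorization p = (Nat.card (A.map f)).factorization p +
      (Nat.card (A ⊓ f.ker : Subgroup G)).factorization p := by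
    rw [← h1, Nat.factorization_mul Nat.card_pos.ne' Nat.card_pos.ne']
    rfl
  have h5 : p ^ (Nat.card (A.map f)).factorization p *
      p ^ (Nat.card (A ⊓ f.ker : Subgroup G)).factorization p = Nat.card T := by
    rw [h.2, h4, pow_add]
  by_contra hlt
  push Not at hlt
  have hpos : 0 < p ^ (Nat.card (A ⊓ f.ker : Subgroup G)).factorization p := pow_pos hp.pos _
  have h6 : Nat.card (T.map f) * Nat.card (T ⊓ f.ker : Subgroup G) ≤
      Nat.card (T.map f) * p ^ (Nat.card (A ⊓ f.ker : Subgroup G)).factorization p :=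
    Nat.mul_le_mul_left _ h3
  have h7 := Nat.mul_lt_mul_of_pos_right hlt hpos
  omega

/-- Sylow conjugation modulo a normal subgroup: if every element of the `p`-group `B` is in `T L` then some
`x ∈ L` conjugates `B` into `T`. -/
theorem SylIn.exists_conj_mod [Fact p.Prime] {T A L B : Subgroup G} [Finite A] (h : SylIn p T A)
    (hL : L ≤ A) (hLn : ∀ a ∈ A, ∀ l ∈ L, a * l * a⁻¹ ∈ L)
    (hB : ∀ b ∈ B, ∃ t ∈ T, t⁻¹ * b ∈ L) (hBp : IsPGroup p B) :
    ∃ x ∈ L, ∀ b ∈ B, x * b * x⁻¹ ∈ T := by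
  let K : Subgroup G :=
    { carrier := {k | ∃ t ∈ T, t⁻¹ * k ∈ L}
      one_mem' := ⟨1, Subgroup.one_mem _, by simp⟩
      mul_mem' := by
        rintro a b ⟨t, ht, hta⟩ ⟨s, hs, hsb⟩
        refine ⟨t * s, Subgroup.mul_mem _ ht hs, ?_⟩
        have h1 := hLn s⁻¹ (A.inv_mem (h.le hs)) _ hta
        have h2 : (t * s)⁻¹ * (a * b) = (s⁻¹ * (t⁻¹ * a) * s⁻¹⁻¹) * (s⁻¹ * b) := by group
        rw [h2]
        exact Subgroup.mul_mem _ h1 hsb
      inv_mem' := by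
        rintro a ⟨t, ht, hta⟩
        refine ⟨t⁻¹, Subgroup.inv_mem _ ht, ?_⟩
        have h1 := hLn t (h.le ht) _ (Subgroup.inv_mem _ hta)
        have h2 : (t⁻¹)⁻¹ * a⁻¹ = t * (t⁻¹ * a)⁻¹ * t⁻¹ := by group
        rw [h2]
        exact h1 }
  have hKA : K ≤ A := by
    rintro k ⟨t, ht, htk⟩
    have h1 : k = t * (t⁻¹ * k) := by group
    rw [h1]
    exact A.mul_mem (h.le ht) (hL htk)
  have hTK : T ≤ K := fun t ht => ⟨t, ht, by simp⟩
  have hfinK : Finite K := Finite.of_injective _ (Subgroup.inclusion_injective hKA)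
  have hsyl : SylIn p T K := h.mono hTK hKA
  have hBK : B ≤ K := fun b hb => hB b hb
  obtain ⟨k, ⟨t, ht, htk⟩, hkB⟩ := hsyl.exists_conj hBK hBp
  refine ⟨t⁻¹ * k, htk, fun b hb => ?_⟩
  have h1 := T.mul_mem (T.mul_mem (T.inv_mem ht) (hkB b hb)) ht
  have h2 : t⁻¹ * (k * b * k⁻¹) * t = t⁻¹ * k * b * (t⁻¹ * k)⁻¹ := by group
  rwa [h2] at h1

end Syl

variable {Ω : Type*} [Group Ω] {S : Subgroup Ω} {p : ℕ}

/-! ### The groups `K_P` -/

/-- `K_P = {α ∈ Aut(PQ) : α(P) = P, α(Q) = Q, α|_Q ∈ K}`. -/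
def kP (P Q : Subgroup Ω) (K : Subgroup (MulAut Q)) : Subgroup (MulAut ↥(P ⊔ Q)) where
  carrier := {α | (∀ x : ↥(P ⊔ Q), (x : Ω) ∈ P ↔ ((α x : ↥(P ⊔ Q)) : Ω) ∈ P) ∧
    ∃ β ∈ K, ∀ x : Q, ((α (Subgroup.inclusion le_sup_right x) : ↥(P ⊔ Q)) : Ω) = (β x : Q)}
  one_mem' := ⟨fun x => Iff.rfl, 1, K.one_mem, fun x => rfl⟩
  mul_mem' := by
    rintro a b ⟨ha, α, hα, hae⟩ ⟨hb, β, hβ, hbe⟩
    refine ⟨fun x => (hb x).trans (ha (b x)), α * β, K.mul_mem hα hβ, fun x => ?_⟩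
    have h1 : b (Subgroup.inclusion le_sup_right x) = Subgroup.inclusion le_sup_right (β x) :=
      Subtype.ext (hbe x)
    rw [MulAut.mul_apply, MulAut.mul_apply, h1, hae]
  inv_mem' := by
    rintro a ⟨ha, α, hα, hae⟩
    have h3 : ∀ x, a (a⁻¹ x) = x := fun x => a.apply_symm_apply x
    refine ⟨fun x => ?_, α⁻¹, K.inv_mem hα, fun x => ?_⟩
    · rw [ha (a⁻¹ x), h3]
    · have h4 : α (α⁻¹ x) = x := α.apply_symm_apply x
      have h5 : a (Subgroup.inclusion le_sup_right (α⁻¹ x)) = Subgroup.inclusion le_sup_right x :=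
        Subtype.ext (by rw [hae, h4]; rfl)
      have h6 : a⁻¹ (Subgroup.inclusion le_sup_right x) =
          Subgroup.inclusion le_sup_right (α⁻¹ x) := by
        rw [← h5]
        exact a.symm_apply_apply _
      rw [h6]
      rfl

theorem mem_kP_iff {P Q : Subgroup Ω} {K : Subgroup (MulAut Q)} {α : MulAut ↥(P ⊔ Q)} :
    α ∈ kP P Q K ↔ (∀ x : ↥(P ⊔ Q), (x : Ω) ∈ P ↔ ((α x : ↥(P ⊔ Q)) : Ω) ∈ P) ∧
      ∃ β ∈ K, ∀ x : Q, ((α (Subgroup.inclusion le_sup_right x) : ↥(P ⊔ Q)) : Ω) = (β x : Q) :=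
  Iff.rfl

/-- `N_S^{K_P}(PQ) = N_{S₀}(P)` where `S₀ = N_S^K(Q)`. -/
theorem kNorm_kP (S P Q : Subgroup Ω) (K : Subgroup (MulAut Q)) :
    kNorm S (P ⊔ Q) (kP P Q K) = normalizerIn (kNorm S Q K) P := by
  ext g
  constructor
  · rintro ⟨hg, α, ⟨hα1, β, hβ, hαβ⟩, hαe⟩
    refine ⟨⟨hg, β, hβ, fun x => ?_⟩, ?_⟩
    · rw [← hαβ, hαe]
      rfl
    · refine Subgroup.mem_normalizer_iff.2 fun x => ?_
      constructor
      · intro hx
        have h1 := (hα1 ⟨x, le_sup_left (b := Q) hx⟩).1 hx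
        rwa [hαe] at h1
      · intro hx
        have h1 := α.apply_symm_apply ⟨g * x * g⁻¹, le_sup_left (b := Q) hx⟩
        have h2 := hαe (α.symm ⟨g * x * g⁻¹, le_sup_left (b := Q) hx⟩)
        rw [h1] at h2
        have h3 : g * x * g⁻¹ =
          g * ((α.symm ⟨g * x * g⁻¹, le_sup_left (b := Q) hx⟩ : ↥(P ⊔ Q)) : Ω) * g⁻¹ := h2
        have h4 := mul_left_cancel (mul_right_cancel h3)
        rw [h4, hα1]
        rw [h1]
        exact hx
  · rintro ⟨⟨hg, β, hβ, hβe⟩, hgP⟩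
    have hgQ : g ∈ Subgroup.normalizer (Q : Set Ω) := mem_normalizer_of_aut hβe
    have hgR : g ∈ Subgroup.normalizer ((P ⊔ Q : Subgroup Ω) : Set Ω) := by
      have hmap : ∀ (k : Ω), k ∈ Subgroup.normalizer (P : Set Ω) →
          k ∈ Subgroup.normalizer (Q : Set Ω) → ∀ x ∈ P ⊔ Q, k * x * k⁻¹ ∈ P ⊔ Q := by
        intro k hkP hkQ x hx
        have h1 : (P ⊔ Q).map (MulAut.conj k).toMonoidHom ≤ P ⊔ Q := by
          rw [Subgroup.map_sup]
          refine sup_le_sup ?_ ?_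
          · rintro _ ⟨z, hz, rfl⟩
            exact (Subgroup.mem_normalizer_iff.1 hkP z).1 hz
          · rintro _ ⟨z, hz, rfl⟩
            exact (Subgroup.mem_normalizer_iff.1 hkQ z).1 hz
        exact h1 ⟨x, hx, rfl⟩
      refine Subgroup.mem_normalizer_iff.2 fun x => ⟨hmap g hgP hgQ x, fun hx => ?_⟩
      have h1 := hmap g⁻¹ (Subgroup.inv_mem _ hgP) (Subgroup.inv_mem _ hgQ) _ hx
      have h2 : g⁻¹ * (g * x * g⁻¹) * g⁻¹⁻¹ = x := by group
      rwa [h2] at h1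
    obtain ⟨α, hα⟩ := exists_conjAut hgR
    refine ⟨hg, α, ⟨fun x => ?_, β, hβ, fun x => ?_⟩, hα⟩
    · rw [hα]
      exact Subgroup.mem_normalizer_iff.1 hgP x
    · rw [hα, hβe]
      rfl

/-- Transport of `K_P`. -/
theorem tr_mem_kP {F : FusionSystem S} {P P' Q : Subgroup Ω} {K : Subgroup (MulAut Q)}
    {ω : ↥(P ⊔ Q) →* Ω} (hω : ω ∈ F.Hom (P ⊔ Q)) (hr : ω.range = P' ⊔ Q)
    (hP : ∀ x : ↥(P ⊔ Q), (x : Ω) ∈ P ↔ ω x ∈ P') {χ : MulAut Q} (hχ : χ ∈ K)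
    (hχe : ∀ q : Q, ω (Subgroup.inclusion le_sup_right q) = (χ q : Q)) {α : MulAut ↥(P ⊔ Q)}
    (hα : α ∈ kP P Q K) : tr hω hr α ∈ kP P' Q K := by
  obtain ⟨hα1, β, hβ, hαβ⟩ := hα
  refine ⟨fun y => ?_, χ * β * χ⁻¹, K.mul_mem (K.mul_mem hχ hβ) (K.inv_mem hχ), fun q => ?_⟩
  · obtain ⟨x, hx⟩ := hr.ge y.2
    have hm : ω x ∈ P' ⊔ Q := hr.le ⟨x, rfl⟩
    have hy : y = ⟨ω x, hm⟩ := Subtype.ext hx.symm
    rw [hy, tr_apply, ← hP, ← hP]
    exact hα1 x
  · have h1 : χ (χ⁻¹ q) = q := χ.apply_symm_apply q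
    have hm : ω (Subgroup.inclusion le_sup_right (χ⁻¹ q)) ∈ P' ⊔ Q := hr.le ⟨_, rfl⟩
    have hq : (Subgroup.inclusion le_sup_right q : ↥(P' ⊔ Q)) =
        ⟨ω (Subgroup.inclusion le_sup_right (χ⁻¹ q)), hm⟩ := by
      apply Subtype.ext
      show (q : Ω) = ω (Subgroup.inclusion le_sup_right (χ⁻¹ q))
      rw [hχe, h1]
    rw [hq, tr_apply]
    have h2 : α (Subgroup.inclusion le_sup_right (χ⁻¹ q)) =
        Subgroup.inclusion le_sup_right (β (χ⁻¹ q)) := Subtype.ext (hαβ _)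
    rw [h2, hχe]
    rfl

/-- Restriction to `P` of the elements of `K_P`. -/
def resP (P Q : Subgroup Ω) (K : Subgroup (MulAut Q)) : kP P Q K →* MulAut P where
  toFun α :=
    { toFun := fun x => ⟨((α : MulAut ↥(P ⊔ Q)) (Subgroup.inclusion le_sup_left x) : ↥(P ⊔ Q)),
        (α.2.1 _).1 x.2⟩
      invFun := fun x =>
        ⟨(((α⁻¹ : kP P Q K) : MulAut ↥(P ⊔ Q)) (Subgroup.inclusion le_sup_left x) : ↥(P ⊔ Q)),
        ((α⁻¹ : kP P Q K).2.1 _).1 x.2⟩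
      left_inv := fun x => by
        apply Subtype.ext
        show (((α⁻¹ : kP P Q K) : MulAut ↥(P ⊔ Q)) ((α : MulAut ↥(P ⊔ Q)) _) : Ω) = x
        rw [Subgroup.coe_inv]
        have h := (α : MulAut ↥(P ⊔ Q)).symm_apply_apply
          (Subgroup.inclusion (le_sup_left : P ≤ P ⊔ Q) x)
        exact congrArg Subtype.val h
      right_inv := fun x => by
        apply Subtype.ext
        show ((α : MulAut ↥(P ⊔ Q)) (((α⁻¹ : kP P Q K) : MulAut ↥(P ⊔ Q)) _) : Ω) = x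
        rw [Subgroup.coe_inv]
        have h := (α : MulAut ↥(P ⊔ Q)).apply_symm_apply
          (Subgroup.inclusion (le_sup_left : P ≤ P ⊔ Q) x)
        exact congrArg Subtype.val h
      map_mul' := fun x y => by
        apply Subtype.ext
        show (((α : MulAut ↥(P ⊔ Q)) (Subgroup.inclusion le_sup_left (x * y)) : ↥(P ⊔ Q)) : Ω) = _
        rw [map_mul, map_mul]
        rfl }
  map_one' := by
    apply MulEquiv.ext
    intro x
    rfl
  map_mul' a b := by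
    apply MulEquiv.ext
    intro x
    rfl

theorem resP_apply {P Q : Subgroup Ω} {K : Subgroup (MulAut Q)} (α : kP P Q K) (x : P) :
    ((resP P Q K α x : P) : Ω) =
      (((α : MulAut ↥(P ⊔ Q)) (Subgroup.inclusion le_sup_left x) : ↥(P ⊔ Q)) : Ω) := rfl

/-- If `(PQ, K_P)` is good then `P` is fully automized in `N_F^K(Q)`. -/
theorem kNormSystem_isFullyAutomized [Fact p.Prime] [Finite S] (hS : IsPGroup p S)
    {F : FusionSystem S} {Q : Subgroup Ω} (hQ : Q ≤ S) {K : Subgroup (MulAut Q)}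
    {P : Subgroup Ω} (hP : P ≤ kNorm S Q K) (hgood : GoodK p F (P ⊔ Q) (kP P Q K)) :
    (kNormSystem F hQ K).IsFullyAutomized p P := by
  have hS₀p : IsPGroup p (kNorm S Q K) := hS.to_le (kNorm_le S Q K)
  have hfinS₀ : Finite (kNorm S Q K) := finite_of_le (kNorm_le S Q K)
  have hR : P ⊔ Q ≤ S := sup_le (hP.trans (kNorm_le S Q K)) hQ
  have hfinR : Finite ↥(P ⊔ Q) := finite_of_le hR
  apply isFullyAutomized_of_sylIn hS₀p hP
  have h1 : SylIn p ((autInducedBy S (P ⊔ Q) ⊓ kP P Q K).subgroupOf (kP P Q K))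
      ((F.autGroup (P ⊔ Q) ⊓ kP P Q K).subgroupOf (kP P Q K)) := by
    refine ⟨fun x hx => hgood.2.le hx, ?_⟩
    rw [card_subgroupOf_of_le inf_le_right, card_subgroupOf_of_le inf_le_right, hgood.2.2]
  have h2 := h1.map (resP P Q K)
  have e1 : ((autInducedBy S (P ⊔ Q) ⊓ kP P Q K).subgroupOf (kP P Q K)).map (resP P Q K) =
      autInducedBy (kNorm S Q K) P := by
    ext γ
    constructor
    · rintro ⟨α, hα, rfl⟩
      obtain ⟨g, hg, hge⟩ := (mem_autInducedBy_iff S (P ⊔ Q) α).1 (Subgroup.mem_subgroupOf.1 hα).1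
      have hg' : g ∈ normalizerIn (kNorm S Q K) P := by
        rw [← kNorm_kP]
        exact ⟨hg, α, α.2, hge⟩
      exact (mem_autInducedBy_iff _ _ _).2 ⟨g, hg'.1, fun x => hge _⟩
    · intro hγ
      obtain ⟨g, hg, hge⟩ := (mem_autInducedBy_iff _ _ _).1 hγ
      have hg' : g ∈ kNorm S (P ⊔ Q) (kP P Q K) := by
        rw [kNorm_kP]
        exact ⟨hg, mem_normalizer_of_aut hge⟩
      obtain ⟨hgS, α, hα, hαe⟩ := hg'
      refine ⟨⟨α, hα⟩, Subgroup.mem_subgroupOf.2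
        ⟨(mem_autInducedBy_iff _ _ _).2 ⟨g, hgS, hαe⟩, hα⟩, ?_⟩
      apply MulEquiv.ext
      intro x
      apply Subtype.ext
      rw [resP_apply, hge]
      exact hαe _
  have e2 : ((F.autGroup (P ⊔ Q) ⊓ kP P Q K).subgroupOf (kP P Q K)).map (resP P Q K) =
      (kNormSystem F hQ K).autGroup P := by
    ext γ
    constructor
    · rintro ⟨α, hα, rfl⟩
      rw [mem_autGroup_iff _ hP]
      have hα1 := (Subgroup.mem_subgroupOf.1 hα).1
      obtain ⟨β, hβ, hαβ⟩ := α.2.2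
      exact ⟨hP, fun x => hP (resP P Q K α x).2, _, (mem_autGroup_iff F hR _).1 hα1,
        fun x => rfl, β, hβ, hαβ⟩
    · intro hγ
      rw [mem_autGroup_iff _ hP] at hγ
      obtain ⟨-, -, ψ, hψ, hψγ, β, hβ, hψβ⟩ := hγ
      have hψR : ∀ x, ψ x ∈ P ⊔ Q := by
        intro x
        refine mem_of_sup (fun y => ?_) (fun y => ?_) x
        · rw [hψγ]
          exact Subgroup.mem_sup_left (γ y).2
        · rw [hψβ]
          exact Subgroup.mem_sup_right (β y).2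
      obtain ⟨α, hα, hαe⟩ := exists_aut hψ (range_eq_of_mapsTo hψ hψR)
      have hαk : α ∈ kP P Q K := by
        refine ⟨fun x => ?_, β, hβ, fun x => by rw [hαe, hψβ]⟩
        rw [hαe]
        constructor
        · intro hx
          have := hψγ ⟨x, hx⟩
          have h3 : Subgroup.inclusion (le_sup_left : P ≤ P ⊔ Q) ⟨x, hx⟩ = x := rfl
          rw [h3] at this
          rw [this]
          exact (γ _).2
        · intro hx
          have h3 := hψγ (γ.symm ⟨_, hx⟩)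
          have h4 : ψ (Subgroup.inclusion le_sup_left (γ.symm ⟨ψ x, hx⟩)) = ψ x := by
            rw [h3]
            show ((γ (γ.symm ⟨ψ x, hx⟩) : P) : Ω) = ψ x
            rw [MulEquiv.apply_symm_apply]
          have h5 := F.injective_of_mem hψ h4
          rw [← h5]
          exact (γ.symm ⟨ψ x, hx⟩).2
      refine ⟨⟨α, hαk⟩, Subgroup.mem_subgroupOf.2 ⟨hα, hαk⟩, ?_⟩
      apply MulEquiv.ext
      intro x
      apply Subtype.ext
      rw [resP_apply]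
      show ((α _ : ↥(P ⊔ Q)) : Ω) = _
      rw [hαe, hψγ]
      rfl
  rw [e1, e2] at h2
  exact h2

/-- If `(PQ, K_P)` is good then `P` is receptive in `N_F^K(Q)`. -/
theorem kNormSystem_isReceptive [Fact p.Prime] [Finite S] (hS : IsPGroup p S)
    {F : FusionSystem S} {Q : Subgroup Ω} (hQ : Q ≤ S) {K : Subgroup (MulAut Q)}
    {P : Subgroup Ω} (hP : P ≤ kNorm S Q K) (hgood : GoodK p F (P ⊔ Q) (kP P Q K)) :
    (kNormSystem F hQ K).IsReceptive P := by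
  refine ⟨hP, ?_⟩
  rintro P₁ φ ⟨hP₁, hφS, ψ, hψ, hψφ, α, hα, hψα⟩ hφP
  have hR : P ⊔ Q ≤ S := sup_le (hP.trans (kNorm_le S Q K)) hQ
  have hR₁ : P₁ ⊔ Q ≤ S := sup_le (hP₁.trans (kNorm_le S Q K)) hQ
  have hfinR : Finite ↥(P ⊔ Q) := finite_of_le hR
  have hfinP : Finite P := finite_of_le (hP.trans (kNorm_le S Q K))
  set N := extender (kNorm S Q K) P₁ φ with hN
  have hNS₀ : N ≤ kNorm S Q K := extender_le _ _ _
  have hNS : N ≤ S := hNS₀.trans (kNorm_le S Q K)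
  have hφm : ∀ x : P₁, φ x ∈ P := fun x => hφP.le ⟨x, rfl⟩
  -- the range of ψ
  have hψr : ψ.range = P ⊔ Q := by
    rw [range_sup]
    congr 1
    · rw [← hφP]
      ext z
      constructor
      · rintro ⟨x, rfl⟩
        exact ⟨x, (hψφ x).symm⟩
      · rintro ⟨x, rfl⟩
        exact ⟨x, hψφ x⟩
    · ext z
      constructor
      · rintro ⟨x, rfl⟩
        show ψ (Subgroup.inclusion le_sup_right x) ∈ Q
        rw [hψα]
        exact (α x).2
      · intro hz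
        refine ⟨α.symm ⟨z, hz⟩, ?_⟩
        show ψ (Subgroup.inclusion le_sup_right _) = z
        rw [hψα, MulEquiv.apply_symm_apply]
  have hψP : ∀ x : ↥(P₁ ⊔ Q), (x : Ω) ∈ P₁ ↔ ψ x ∈ P := by
    intro x
    constructor
    · intro hx
      have h1 := hψφ ⟨x, hx⟩
      have h2 : Subgroup.inclusion (le_sup_left : P₁ ≤ P₁ ⊔ Q) ⟨x, hx⟩ = x := rfl
      rw [h2] at h1
      rw [h1]
      exact hφm _
    · intro hx
      obtain ⟨y, hy⟩ := hφP.ge hx
      have h1 := hψφ y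
      rw [hy] at h1
      rw [← F.injective_of_mem hψ h1]
      exact y.2
  -- the group L
  let L : Subgroup (MulAut ↥(P ⊔ Q)) :=
    { carrier := {β | β ∈ F.autGroup (P ⊔ Q) ⊓ kP P Q K ∧
        ∀ x : P, β (Subgroup.inclusion le_sup_left x) = Subgroup.inclusion le_sup_left x}
      one_mem' := ⟨Subgroup.one_mem _, fun x => rfl⟩
      mul_mem' := by
        rintro a b ⟨ha, ha'⟩ ⟨hb, hb'⟩
        refine ⟨Subgroup.mul_mem _ ha hb, fun x => ?_⟩
        rw [MulAut.mul_apply, hb', ha']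
      inv_mem' := by
        rintro a ⟨ha, ha'⟩
        refine ⟨Subgroup.inv_mem _ ha, fun x => ?_⟩
        conv_lhs => rw [← ha' x]
        exact a.symm_apply_apply _ }
  have hL : L ≤ F.autGroup (P ⊔ Q) ⊓ kP P Q K := fun β hβ => hβ.1
  have hLn : ∀ a ∈ F.autGroup (P ⊔ Q) ⊓ kP P Q K, ∀ l ∈ L, a * l * a⁻¹ ∈ L := by
    rintro a ha l ⟨hl, hl'⟩
    refine ⟨Subgroup.mul_mem _ (Subgroup.mul_mem _ ha hl) (Subgroup.inv_mem _ ha), fun x => ?_⟩
    have hax : (((a⁻¹ : MulAut ↥(P ⊔ Q)) (Subgroup.inclusion le_sup_left x) : ↥(P ⊔ Q)) : Ω) ∈ P :=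
      (((kP P Q K).inv_mem ha.2).1 _).1 x.2
    rw [MulAut.mul_apply, MulAut.mul_apply]
    have h1 := hl' ⟨_, hax⟩
    have h2 : Subgroup.inclusion (le_sup_left : P ≤ P ⊔ Q) ⟨_, hax⟩ =
      (a⁻¹ : MulAut ↥(P ⊔ Q)) (Subgroup.inclusion le_sup_left x) := rfl
    rw [h2] at h1
    rw [h1]
    exact a.apply_symm_apply _
  -- the group B
  set B := (autInducedBy N (P₁ ⊔ Q)).map (tr hψ hψr).toMonoidHom with hB
  have hNp : IsPGroup p N := hS.to_le hNS
  have hBp : IsPGroup p B := (isPGroup_autInducedBy hNp _).map _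
  -- γ = c_g on P₁ ⊔ Q, g ∈ N, is in K_{P₁}
  have hγk : ∀ (γ : MulAut ↥(P₁ ⊔ Q)) (g : Ω), g ∈ N →
      (∀ x, ((γ x : ↥(P₁ ⊔ Q)) : Ω) = g * x * g⁻¹) → γ ∈ kP P₁ Q K := by
    intro γ g hg hγ
    have h1 : g ∈ kNorm S (P₁ ⊔ Q) (kP P₁ Q K) := by
      rw [kNorm_kP]
      exact ⟨hNS₀ hg, extender_le_normalizer _ _ _ hg⟩
    obtain ⟨-, γ', hγ', hγ'e⟩ := h1
    have : γ = γ' := MulEquiv.ext fun x => Subtype.ext ((hγ x).trans (hγ'e x).symm)
    rw [this]
    exact hγ'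
  have hBT : ∀ b ∈ B, ∃ t ∈ autInducedBy S (P ⊔ Q) ⊓ kP P Q K, t⁻¹ * b ∈ L := by
    rintro _ ⟨γ, hγ, rfl⟩
    obtain ⟨g, hg, hge⟩ := (mem_autInducedBy_iff _ _ _).1 hγ
    obtain ⟨hgS₀, hgN, h, hh, hhe⟩ := (mem_extender_iff _ _ _ g).1 hg
    have hγS : γ ∈ autInducedBy S (P₁ ⊔ Q) := (mem_autInducedBy_iff _ _ _).2 ⟨g, hNS hg, hge⟩
    have hbA : tr hψ hψr γ ∈ F.autGroup (P ⊔ Q) :=
      tr_mem_autGroup hψ hψr (autInducedBy_le_autGroup F hR₁ hγS)
    have hbK : tr hψ hψr γ ∈ kP P Q K := tr_mem_kP hψ hψr hψP hα hψα (hγk γ g hg hge)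
    -- h normalizes P
    have hhP : ∀ z ∈ P, h * z * h⁻¹ ∈ P := by
      intro z hz
      obtain ⟨x, rfl⟩ := hφP.ge hz
      have hx : g * (x : Ω) * g⁻¹ ∈ P₁ := (Subgroup.mem_normalizer_iff.1 hgN x).1 x.2
      rw [← hhe x hx]
      exact hφm _
    have hhN : h ∈ Subgroup.normalizer (P : Set Ω) := by
      have hle : P.map (MulAut.conj h).toMonoidHom ≤ P := by
        rintro _ ⟨z, hz, rfl⟩
        exact hhP z hz
      have heq : P.map (MulAut.conj h).toMonoidHom = P :=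
        Subgroup.eq_of_le_of_card_ge hle (card_map_conj h P).ge
      refine Subgroup.mem_normalizer_iff.2 fun z => ⟨hhP z, fun hz => ?_⟩
      rw [← heq] at hz
      obtain ⟨w, hw, hwe⟩ := hz
      have hwe' : h * w * h⁻¹ = h * z * h⁻¹ := hwe
      have hwz : w = z := mul_left_cancel (mul_right_cancel hwe')
      rw [← hwz]
      exact hw
    have hhk : h ∈ kNorm S (P ⊔ Q) (kP P Q K) := by
      rw [kNorm_kP]
      exact ⟨hh, hhN⟩
    obtain ⟨hhS, t, ht, hte⟩ := hhk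
    have htS : t ∈ autInducedBy S (P ⊔ Q) := (mem_autInducedBy_iff _ _ _).2 ⟨h, hhS, hte⟩
    have htA : t ∈ F.autGroup (P ⊔ Q) := autInducedBy_le_autGroup F hR htS
    refine ⟨t, ⟨htS, ht⟩, ⟨Subgroup.mul_mem _ (Subgroup.inv_mem _ htA) hbA,
      Subgroup.mul_mem _ (Subgroup.inv_mem _ ht) hbK⟩, fun x => ?_⟩
    -- on P, b = t
    have h1 : tr hψ hψr γ (Subgroup.inclusion le_sup_left x) =
        t (Subgroup.inclusion le_sup_left x) := by
      obtain ⟨y, hy⟩ := hφP.ge x.2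
      have hm : ψ (Subgroup.inclusion le_sup_left y) ∈ P ⊔ Q := hψr.le ⟨_, rfl⟩
      have e1 : (Subgroup.inclusion le_sup_left x : ↥(P ⊔ Q)) =
          ⟨ψ (Subgroup.inclusion le_sup_left y), hm⟩ := by
        apply Subtype.ext
        show (x : Ω) = ψ (Subgroup.inclusion le_sup_left y)
        rw [hψφ, hy]
      apply Subtype.ext
      rw [e1, tr_apply, hte]
      have hyN : g * (y : Ω) * g⁻¹ ∈ P₁ := (Subgroup.mem_normalizer_iff.1 hgN y).1 y.2
      have e2 : γ (Subgroup.inclusion le_sup_left y) =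
          Subgroup.inclusion le_sup_left ⟨g * (y : Ω) * g⁻¹, hyN⟩ := Subtype.ext (hge _)
      rw [e2]
      show ψ (Subgroup.inclusion le_sup_left ⟨g * (y : Ω) * g⁻¹, hyN⟩) =
        h * ψ (Subgroup.inclusion le_sup_left y) * h⁻¹
      rw [hψφ, hψφ]
      exact hhe y hyN
    rw [MulAut.mul_apply]
    show t⁻¹ (tr hψ hψr γ (Subgroup.inclusion le_sup_left x)) = _
    rw [h1]
    exact t.symm_apply_apply _
  obtain ⟨χ, hχL, hχB⟩ := hgood.2.exists_conj_mod hL hLn hBT hBp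
  -- φ' = χ ψ
  have hψm : ∀ x, ψ x ∈ P ⊔ Q := fun x => hψr.le ⟨x, rfl⟩
  obtain ⟨φ', hφ', hφ'e⟩ := exists_comp hψ ((mem_autGroup_iff F hR χ).1 hχL.1.1) hψm
  have hφ'x : ∀ x, φ' x = (χ ⟨ψ x, hψm x⟩ : ↥(P ⊔ Q)) := fun x => hφ'e x
  have hφ'r : φ'.range = P ⊔ Q := by
    have hle : φ'.range ≤ P ⊔ Q := by
      rintro _ ⟨x, rfl⟩
      rw [hφ'x]
      exact (χ _).2
    refine Subgroup.eq_of_le_of_card_ge hle ?_
    rw [← isConj_card_eq (isConj_range hφ'), ← isConj_card_eq (⟨ψ, hψ, hψr⟩ : F.IsConj _ _)]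
  have hNE : N ≤ extender S (P₁ ⊔ Q) φ' := by
    intro g hg
    have h1 : g ∈ kNorm S (P₁ ⊔ Q) (kP P₁ Q K) := by
      rw [kNorm_kP]
      exact ⟨hNS₀ hg, extender_le_normalizer _ _ _ hg⟩
    obtain ⟨-, γ, hγ, hγe⟩ := h1
    rw [mem_extender_iff]
    refine ⟨hNS hg, mem_normalizer_of_aut hγe, ?_⟩
    have hb : tr hψ hψr γ ∈ B := ⟨γ, (mem_autInducedBy_iff _ _ _).2 ⟨g, hg, hγe⟩, rfl⟩
    obtain ⟨k, hk, hke⟩ := (mem_autInducedBy_iff S (P ⊔ Q) _).1 (hχB _ hb).1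
    refine ⟨k, hk, fun x hx => ?_⟩
    have h2 := hke (χ ⟨ψ x, hψm x⟩)
    rw [MulAut.mul_apply, MulAut.mul_apply] at h2
    have h3 : χ⁻¹ (χ ⟨ψ x, hψm x⟩) = (⟨ψ x, hψm x⟩ : ↥(P ⊔ Q)) := χ.symm_apply_apply _
    rw [h3] at h2
    rw [hφ'x, hφ'x, ← h2]
    congr 2
    apply Subtype.ext
    rw [tr_apply]
    show ψ _ = ψ (γ x)
    congr 1
    exact Subtype.ext (hγe x).symm
  have hQE : Q ≤ extender S (P₁ ⊔ Q) φ' :=
    le_sup_right.trans (le_extender hR₁ (hom_apply_mem hφ'))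
  obtain ⟨ω, hω, hωe⟩ := hgood.1.2 (P₁ ⊔ Q) φ' hφ' hφ'r
  have hNQE : N ⊔ Q ≤ extender S (P₁ ⊔ Q) φ' := sup_le hNE hQE
  have hωNQ := restrict_mem hω hNQE
  -- δ = χ|_Q α
  obtain ⟨χ', hχ', hχ'e⟩ := hχL.1.2.2
  have hωQ : ∀ q : Q, (ω.comp (Subgroup.inclusion hNQE)) (Subgroup.inclusion le_sup_right q) =
      ((χ' * α) q : Q) := by
    intro q
    have h1 : ω ⟨q, hQE q.2⟩ = φ' ⟨q, le_sup_right (a := P₁) q.2⟩ := hωe _ _ _
    show ω ⟨q, _⟩ = _
    rw [h1, hφ'x, MulAut.mul_apply, ← hχ'e]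
    congr 2
    apply Subtype.ext
    exact hψα q
  refine ⟨(ω.comp (Subgroup.inclusion hNQE)).comp (Subgroup.inclusion le_sup_left),
    ⟨hNS₀, ?_, _, hωNQ, fun x => rfl, χ' * α, K.mul_mem hχ' hα, hωQ⟩, ?_⟩
  · intro g
    refine ⟨hom_apply_mem (restrict_mem hωNQ le_sup_left) g, ?_⟩
    obtain ⟨-, κ, hκ, hκe⟩ := hNS₀ g.2
    refine ⟨(χ' * α) * κ * (χ' * α)⁻¹, K.mul_mem (K.mul_mem (K.mul_mem hχ' hα) hκ)
      (K.inv_mem (K.mul_mem hχ' hα)), fun q => ?_⟩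
    rw [MulAut.mul_apply, MulAut.mul_apply]
    have h1 : (χ' * α) ((χ' * α)⁻¹ q) = q := (χ' * α).apply_symm_apply q
    have h2 := hωQ ((χ' * α)⁻¹ q)
    rw [h1] at h2
    rw [← hωQ]
    show (ω.comp (Subgroup.inclusion hNQE)) _ =
      (ω.comp (Subgroup.inclusion hNQE)) (Subgroup.inclusion le_sup_left g) * q *
      ((ω.comp (Subgroup.inclusion hNQE)) (Subgroup.inclusion le_sup_left g))⁻¹
    rw [← h2, ← map_inv, ← map_mul, ← map_mul]
    congr 1
    apply Subtype.ext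
    show ((κ ((χ' * α)⁻¹ q) : Q) : Ω) = g * (((χ' * α)⁻¹ q : Q) : Ω) * (g : Ω)⁻¹
    exact hκe _
  · intro x hxP hxN
    have h1 : ω ⟨x, hNE hxN⟩ = φ' ⟨x, le_sup_left (b := Q) hxP⟩ := hωe _ _ _
    show ω ⟨x, _⟩ = _
    rw [h1, hφ'x]
    have h2 : (⟨ψ ⟨x, le_sup_left (b := Q) hxP⟩, hψm _⟩ : ↥(P ⊔ Q)) =
        Subgroup.inclusion le_sup_left ⟨φ ⟨x, hxP⟩, hφm _⟩ := Subtype.ext (hψφ ⟨x, hxP⟩)
    rw [h2, hχL.2]
    rfl

/-- Every subgroup `P` of `S₀ = N_S^K(Q)` is conjugate in `N_F^K(Q)` to some `P'` with `(P'Q, K_{P'})` good. -/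
theorem exists_conj_good [Fact p.Prime] [Finite S] (hS : IsPGroup p S)
    {F : FusionSystem S} (hF : F.IsSaturated p) {Q : Subgroup Ω} (hQ : Q ≤ S)
    {K : Subgroup (MulAut Q)} (hgood : GoodK p F Q K) {P : Subgroup Ω} (hP : P ≤ kNorm S Q K) :
    ∃ P' : Subgroup Ω, (kNormSystem F hQ K).IsConj P P' ∧ GoodK p F (P' ⊔ Q) (kP P' Q K) := by
  have hR : P ⊔ Q ≤ S := sup_le (hP.trans (kNorm_le S Q K)) hQ
  obtain ⟨R', φ, hφ, hφr, hg'⟩ := exists_goodK hS hF hR (kP P Q K)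
  set φQ := φ.comp (Subgroup.inclusion (le_sup_right : Q ≤ P ⊔ Q)) with hφQdef
  have hφQ : φQ ∈ F.Hom Q := restrict_mem hφ le_sup_right
  set Q₁ := φQ.range with hQ₁
  obtain ⟨δ, hδ, hδr, hδ1, hδ2⟩ := exists_inv (Q := Q₁) hφQ rfl
  set K₁ : Subgroup (MulAut Q₁) := K.comap (tr hδ hδr).toMonoidHom with hK₁
  obtain ⟨χ, hχ, ψ, hψ, hψe⟩ := exists_extension_kNorm hS hgood hδ hδr K₁ (fun α hα => hα)
  have hφQm : ∀ q : Q, φQ q ∈ Q₁ := fun q => ⟨q, rfl⟩
  -- if `k ∈ S` acts on `Q₁` as `φ κ φ⁻¹`, `κ ∈ K`, then `k ∈ N_S^{K₁}(Q₁)`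
  have hkey : ∀ k ∈ S, ∀ κ ∈ K, (∀ q : Q, φQ (κ q) = k * φQ q * k⁻¹) → k ∈ kNorm S Q₁ K₁ := by
    intro k hk κ hκ hκe
    refine ⟨hk, tr hφQ rfl κ, ?_, fun y => ?_⟩
    · show tr hδ hδr (tr hφQ rfl κ) ∈ K
      have : tr hδ hδr (tr hφQ rfl κ) = κ := by
        apply tr_eq_of_apply
        intro y hy
        obtain ⟨_, q, rfl⟩ := y
        have e1 : (⟨δ ⟨φQ q, ⟨q, rfl⟩⟩, hy⟩ : Q) = q := Subtype.ext (hδ1 q _)
        rw [e1]
        have e2 : tr hφQ rfl κ ⟨φQ q, ⟨q, rfl⟩⟩ = ⟨φQ (κ q), ⟨_, rfl⟩⟩ :=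
          Subtype.ext (tr_apply hφQ rfl κ q _)
        rw [e2]
        exact (hδ1 (κ q) _).symm
      rw [this]
      exact hκ
    · obtain ⟨_, q, rfl⟩ := y
      exact (tr_apply hφQ rfl κ q _).trans (hκe q)
  -- φ has values in the source of ψ
  have hφD : ∀ x : ↥(P ⊔ Q), φ x ∈ Q₁ ⊔ kNorm S Q₁ K₁ := by
    intro x
    refine mem_of_sup (fun y => ?_) (fun y => ?_) x
    · apply Subgroup.mem_sup_right
      obtain ⟨-, κ, hκ, hκe⟩ := hP y.2
      refine hkey _ (hom_apply_mem hφ _) κ hκ fun q => ?_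
      show φ _ = φ _ * φ _ * (φ _)⁻¹
      rw [← map_inv, ← map_mul, ← map_mul]
      congr 1
      exact Subtype.ext (hκe q)
    · have hy1 : φ (Subgroup.inclusion le_sup_right y) ∈ Q₁ := ⟨y, rfl⟩
      exact Subgroup.mem_sup_left hy1
  obtain ⟨ω, hω, hωe⟩ := exists_comp hφ hψ hφD
  -- ω on Q is χ
  have hωQ : ∀ q : Q, ω (Subgroup.inclusion le_sup_right q) = (χ q : Q) := by
    intro q
    rw [hωe]
    have e1 : (⟨φ (Subgroup.inclusion le_sup_right q), hφD _⟩ : ↥(Q₁ ⊔ kNorm S Q₁ K₁)) =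
        Subgroup.inclusion le_sup_left (⟨φQ q, hφQm q⟩ : Q₁) := rfl
    have hδm : δ ⟨φQ q, hφQm q⟩ ∈ Q := hδr.le ⟨_, rfl⟩
    rw [e1, hψe ⟨φQ q, hφQm q⟩ hδm]
    congr 2
    exact Subtype.ext (hδ1 q _)
  set φ₀ := ω.comp (Subgroup.inclusion (le_sup_left : P ≤ P ⊔ Q)) with hφ₀
  set P' := φ₀.range with hP'
  have hωr : ω.range = P' ⊔ Q := by
    rw [range_sup]
    congr 1
    ext z
    constructor
    · rintro ⟨x, rfl⟩
      show ω (Subgroup.inclusion le_sup_right x) ∈ Q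
      rw [hωQ]
      exact (χ x).2
    · intro hz
      refine ⟨χ.symm ⟨z, hz⟩, ?_⟩
      show ω (Subgroup.inclusion le_sup_right _) = z
      rw [hωQ, MulEquiv.apply_symm_apply]
  have hωP : ∀ x : ↥(P ⊔ Q), (x : Ω) ∈ P ↔ ω x ∈ P' := by
    intro x
    constructor
    · intro hx
      exact ⟨⟨x, hx⟩, rfl⟩
    · rintro ⟨y, hy⟩
      have h1 := F.injective_of_mem hω hy
      rw [← h1]
      exact y.2
  refine ⟨P', ⟨φ₀, ⟨hP, fun x => ?_, ω, hω, fun x => rfl, χ, hχ.2, hωQ⟩, rfl⟩, ?_⟩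
  · -- values in S₀
    refine ⟨hom_apply_mem hω _, ?_⟩
    obtain ⟨-, κ, hκ, hκe⟩ := hP x.2
    refine ⟨χ * κ * χ⁻¹, K.mul_mem (K.mul_mem hχ.2 hκ) (K.inv_mem hχ.2), fun q => ?_⟩
    rw [MulAut.mul_apply, MulAut.mul_apply]
    have h1 : χ (χ⁻¹ q) = q := χ.apply_symm_apply q
    have h2 := hωQ (χ⁻¹ q)
    rw [h1] at h2
    rw [← hωQ]
    show ω _ = ω (Subgroup.inclusion le_sup_left x) * q * (ω (Subgroup.inclusion le_sup_left x))⁻¹
    rw [← h2, ← map_inv, ← map_mul, ← map_mul]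
    congr 1
    exact Subtype.ext (hκe _)
  · -- goodness
    obtain ⟨ε, hε, hεr, hε1, hε2⟩ := exists_inv hω hωr
    have hεm : ∀ y, ε y ∈ P ⊔ Q := fun y => hεr.le ⟨y, rfl⟩
    obtain ⟨ρ, hρ, hρe⟩ := exists_comp hε hφ hεm
    have hρr : ρ.range = R' := by
      rw [← hφr]
      ext z
      constructor
      · rintro ⟨y, rfl⟩
        exact ⟨_, (hρe y).symm⟩
      · rintro ⟨x, rfl⟩
        have hm : ω x ∈ P' ⊔ Q := hωr.le ⟨x, rfl⟩
        refine ⟨⟨ω x, hm⟩, ?_⟩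
        rw [hρe]
        congr 1
        exact Subtype.ext (hε1 x hm)
    have hεP : ∀ y : ↥(P' ⊔ Q), (y : Ω) ∈ P' ↔ ε y ∈ P := by
      intro y
      have h1 := hε2 y (hεm y)
      have h2 := hωP ⟨ε y, hεm y⟩
      rw [h1] at h2
      exact h2.symm
    have hεQ : ∀ q : Q, ε (Subgroup.inclusion le_sup_right q) = ((χ⁻¹ q : Q) : Ω) := by
      intro q
      have h1 : χ (χ⁻¹ q) = q := χ.apply_symm_apply q
      have h2 := hωQ (χ⁻¹ q)
      rw [h1] at h2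
      have hm : ω (Subgroup.inclusion le_sup_right (χ⁻¹ q)) ∈ P' ⊔ Q := hωr.le ⟨_, rfl⟩
      have h3 := hε1 (Subgroup.inclusion le_sup_right (χ⁻¹ q)) hm
      have h4 : (Subgroup.inclusion le_sup_right q : ↥(P' ⊔ Q)) =
        ⟨ω (Subgroup.inclusion le_sup_right (χ⁻¹ q)), hm⟩ := Subtype.ext h2.symm
      rw [h4]
      exact h3
    refine goodK_of_card hS hF hρ hρr ?_ hg' ?_
    · intro α hα
      refine ⟨tr hε hεr α, tr_mem_kP hε hεr hεP (K.inv_mem hχ.2) hεQ hα, ?_⟩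
      show tr hφ hφr (tr hε hεr α) = tr hρ hρr α
      symm
      apply tr_eq_of_apply
      intro y hy
      have e1 : (⟨ρ y, hy⟩ : R') = ⟨φ ⟨ε y, hεm y⟩, hφr.le ⟨_, rfl⟩⟩ := Subtype.ext (hρe y)
      rw [e1, tr_apply, hρe]
      congr 1
      apply Subtype.ext
      rw [tr_apply]
    · -- card inequality through ψ
      have hin : ∀ g ∈ kNorm S R' ((kP P Q K).map (tr hφ hφr).toMonoidHom),
          g ∈ kNorm S Q₁ K₁ := by
        rintro g ⟨hg, _, ⟨α, hα, rfl⟩, hge⟩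
        obtain ⟨hα1, β, hβ, hαβ⟩ := hα
        refine hkey g hg β hβ fun q => ?_
        have hm : φ (Subgroup.inclusion le_sup_right q) ∈ R' := hφr.le ⟨_, rfl⟩
        have h1 := hge ⟨φ (Subgroup.inclusion le_sup_right q), hm⟩
        have h2 : (((tr hφ hφr).toMonoidHom α ⟨φ (Subgroup.inclusion le_sup_right q), hm⟩ : R') : Ω)
          = φ (α (Subgroup.inclusion le_sup_right q)) := tr_apply hφ hφr α _ hm
        rw [h2] at h1
        have h3 : α (Subgroup.inclusion le_sup_right q) = Subgroup.inclusion le_sup_right (β q) :=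
          Subtype.ext (hαβ q)
        rw [h3] at h1
        exact h1
      have hle : kNorm S R' ((kP P Q K).map (tr hφ hφr).toMonoidHom) ≤ Q₁ ⊔ kNorm S Q₁ K₁ :=
        fun g hg => Subgroup.mem_sup_right (hin g hg)
      have hfin : Finite (kNorm S (P' ⊔ Q) (kP P' Q K)) := finite_of_le (kNorm_le _ _ _)
      refine card_le_of_maps (F.injective_of_mem hψ) hle ?_
      intro g hg
      refine ⟨hom_apply_mem hψ _, ?_⟩
      obtain ⟨hgS, _, ⟨α, hα, rfl⟩, hge⟩ := id hg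
      refine ⟨tr hω hωr α, tr_mem_kP hω hωr hωP hχ.2 hωQ hα, fun y => ?_⟩
      obtain ⟨x, hx⟩ := hωr.ge y.2
      have hm : ω x ∈ P' ⊔ Q := hωr.le ⟨x, rfl⟩
      have hy : y = ⟨ω x, hm⟩ := Subtype.ext hx.symm
      rw [hy, tr_apply, hωe]
      show _ = ψ ⟨g, hle hg⟩ * ω x * (ψ ⟨g, hle hg⟩)⁻¹
      rw [hωe, ← map_inv, ← map_mul, ← map_mul]
      congr 1
      apply Subtype.ext
      have hm' : φ x ∈ R' := hφr.le ⟨x, rfl⟩
      have h1 := hge ⟨φ x, hm'⟩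
      have h2 : (((tr hφ hφr).toMonoidHom α ⟨φ x, hm'⟩ : R') : Ω) = φ (α x) :=
        tr_apply hφ hφr α _ hm'
      rw [h2] at h1
      exact h1

/-- **Saturation of `N_F^K(Q)`** for a good pair `(Q, K)`. -/
theorem kNormSystem_isSaturated [Fact p.Prime] [Finite S] (hS : IsPGroup p S)
    {F : FusionSystem S} (hF : F.IsSaturated p) {Q : Subgroup Ω} (hQ : Q ≤ S)
    {K : Subgroup (MulAut Q)} (hgood : GoodK p F Q K) : (kNormSystem F hQ K).IsSaturated p := by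
  intro P hP
  obtain ⟨P', hc, hg⟩ := exists_conj_good hS hF hQ hgood hP
  have hP' : P' ≤ kNorm S Q K := isConj_le_right hc
  exact ⟨P', hc, kNormSystem_isFullyAutomized hS hQ hP' hg, kNormSystem_isReceptive hS hQ hP' hg⟩

/-- Saturation depends only on the sets of maps (same underlying group). -/
theorem isSaturated_cast {S T : Subgroup Ω} (h : S = T) {F : FusionSystem S}
    (hF : F.IsSaturated p) : (castSystem h F).IsSaturated p := by
  subst h
  exact hF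

theorem isSaturated_congr {F E : FusionSystem S} (h : ∀ P, F.Hom P = E.Hom P)
    (hF : F.IsSaturated p) : E.IsSaturated p := by
  have : F = E := by
    cases F
    cases E
    congr
    funext P
    exact h P
  exact this ▸ hF

/-- **`N_F(Q)` is saturated** for `Q` fully normalized. -/
theorem normalizerSystem_isSaturated [Fact p.Prime] [Finite S] (hS : IsPGroup p S)
    {F : FusionSystem S} (hF : F.IsSaturated p) {Q : Subgroup Ω} (hQ : F.IsFullyNormalized Q)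
    {E : FusionSystem (normalizerIn S Q)} (hE : F.IsNormalizerSystem Q E) : E.IsSaturated p := by
  refine isSaturated_congr (F := castSystem (kNorm_top S Q) (kNormSystem F hQ.1 ⊤)) (fun P => ?_)
    (isSaturated_cast _ (kNormSystem_isSaturated hS hF hQ.1 (goodK_top hS hF hQ)))
  rw [castSystem_hom, hE P, normalizerHom_eq]
  rfl

/-- **`C_F(Q)` is saturated** for `Q` fully centralized. -/
theorem centralizerSystem_isSaturated [Fact p.Prime] [Finite S] (hS : IsPGroup p S)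
    {F : FusionSystem S} (hF : F.IsSaturated p) {Q : Subgroup Ω} (hQ : F.IsFullyCentralized Q)
    {E : FusionSystem (centralizerIn S Q)} (hE : F.IsCentralizerSystem Q E) :
    E.IsSaturated p := by
  refine isSaturated_congr (F := castSystem (kNorm_bot S Q) (kNormSystem F hQ.1 ⊥)) (fun P => ?_)
    (isSaturated_cast _ (kNormSystem_isSaturated hS hF hQ.1 (goodK_of_le hS hF hQ bot_le)))
  rw [castSystem_hom, hE P, centralizerHom_eq]
  rfl

end Cfsg.Agent.H802
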