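import Cfsg.Agent.H802.FusKNorm
import Cfsg.Agent.H802.FusNorm
import Cfsg.Agent.H802.SylIn
set_option linter.all false

/-!
# Fully `K`-normalized subgroups (helper802)

`GoodK p F Q K`: `Q` is receptive and `Aut_S(Q) ∩ K` is a Sylow `p`-subgroup of `Aut_F(Q) ∩ K`.
-/

set_option autoImplicit false

namespace Cfsg.Agent.H802

open Cfsg Cfsg.FusionSystem

variable {Ω : Type*} [Group Ω] {S : Subgroup Ω} {p : ℕ}

/-- Transport of automorphisms along a map of the system. -/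
noncomputable def tr {F : FusionSystem S} {P Q : Subgroup Ω} {φ : P →* Ω} (hφ : φ ∈ F.Hom P)
    (hφQ : φ.range = Q) : MulAut P ≃* MulAut Q :=
  MulAut.congr (isoOf φ (F.injective_of_mem hφ) hφQ)

theorem tr_apply {F : FusionSystem S} {P Q : Subgroup Ω} {φ : P →* Ω} (hφ : φ ∈ F.Hom P)
    (hφQ : φ.range = Q) (α : MulAut P) (x : P) (h : φ x ∈ Q) :
    ((tr hφ hφQ α ⟨φ x, h⟩ : Q) : Ω) = φ (α x) := by
  show φ (α ((isoOf φ (F.injective_of_mem hφ) hφQ).symm ⟨φ x, h⟩)) = φ (α x)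
  have h3 : (isoOf φ (F.injective_of_mem hφ) hφQ).symm ⟨φ x, h⟩ = x :=
    (isoOf φ (F.injective_of_mem hφ) hφQ).symm_apply_apply x
  rw [h3]

/-- `tr φ α` is the only automorphism `β` of `Q` with `β(φ x) = φ(α x)`. -/
theorem tr_eq_of_apply {F : FusionSystem S} {P Q : Subgroup Ω} {φ : P →* Ω} (hφ : φ ∈ F.Hom P)
    (hφQ : φ.range = Q) {α : MulAut P} {β : MulAut Q}
    (h : ∀ (x : P) (hx : φ x ∈ Q), ((β ⟨φ x, hx⟩ : Q) : Ω) = φ (α x)) : tr hφ hφQ α = β := by
  apply MulEquiv.ext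
  intro y
  obtain ⟨x, hx⟩ := hφQ.ge y.2
  have hm : φ x ∈ Q := hφQ.le ⟨x, rfl⟩
  have hy : y = ⟨φ x, hm⟩ := Subtype.ext hx.symm
  apply Subtype.ext
  rw [hy, tr_apply, h x hm]

theorem tr_mem_autGroup {F : FusionSystem S} {P Q : Subgroup Ω} {φ : P →* Ω} (hφ : φ ∈ F.Hom P)
    (hφQ : φ.range = Q) {α : MulAut P} (hα : α ∈ F.autGroup P) : tr hφ hφQ α ∈ F.autGroup Q :=
  congr_mem_autGroup hφ hφQ hα

/-- The pair `(Q, K)` is good: `Q` is receptive and `Aut_S(Q) ∩ K ∈ Syl_p(Aut_F(Q) ∩ K)`. -/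
def GoodK (p : ℕ) (F : FusionSystem S) (Q : Subgroup Ω) (K : Subgroup (MulAut Q)) : Prop :=
  F.IsReceptive Q ∧ SylIn p (autInducedBy S Q ⊓ K) (F.autGroup Q ⊓ K)

/-- Conjugation as a homomorphism from the normalizer to the automorphism group. -/
def conjAutHom (Q : Subgroup Ω) : ↥(Subgroup.normalizer (Q : Set Ω)) →* MulAut Q where
  toFun := fun g =>
    { toFun := fun x => ⟨g * x * g⁻¹, (Subgroup.mem_normalizer_iff.1 g.2 x).1 x.2⟩
      invFun := fun x => ⟨(g : Ω)⁻¹ * x * g, by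
        have := (Subgroup.mem_normalizer_iff.1
          ((Subgroup.normalizer (Q : Set Ω)).inv_mem g.2) x).1 x.2
        simpa using this⟩
      left_inv := fun x => Subtype.ext (by simp [mul_assoc])
      right_inv := fun x => Subtype.ext (by simp [mul_assoc])
      map_mul' := fun x y => Subtype.ext (by simp [mul_assoc]) }
  map_one' := by
    apply MulEquiv.ext
    intro x
    apply Subtype.ext
    show (1 : Ω) * x * (1 : Ω)⁻¹ = x
    simp
  map_mul' := by
    intro g h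
    apply MulEquiv.ext
    intro x
    apply Subtype.ext
    show ((g * h : ↥(Subgroup.normalizer (Q : Set Ω))) : Ω) * x *
      ((g * h : ↥(Subgroup.normalizer (Q : Set Ω))) : Ω)⁻¹ =
      (g : Ω) * (h * x * (h : Ω)⁻¹) * (g : Ω)⁻¹
    rw [Subgroup.coe_mul]
    group

theorem conjAutHom_apply (Q : Subgroup Ω) (g : ↥(Subgroup.normalizer (Q : Set Ω))) (x : Q) :
    ((conjAutHom Q g x : Q) : Ω) = g * x * (g : Ω)⁻¹ := rfl

/-- `|Aut_S(Q) ∩ K| |C_S(Q)| = |N_S^K(Q)|`. -/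
theorem card_kNorm (S Q : Subgroup Ω) (K : Subgroup (MulAut Q)) :
    Nat.card (autInducedBy S Q ⊓ K : Subgroup (MulAut Q)) * Nat.card (centralizerIn S Q) =
      Nat.card (kNorm S Q K) := by
  let f : kNorm S Q K →* MulAut Q :=
    (conjAutHom Q).comp (Subgroup.inclusion (kNorm_le_normalizer S Q K))
  have hfa : ∀ (g : kNorm S Q K) (x : Q), ((f g x : Q) : Ω) = g * x * (g : Ω)⁻¹ :=
    fun g x => rfl
  have hrange : f.range = autInducedBy S Q ⊓ K := by
    ext α
    rw [Subgroup.mem_inf, mem_autInducedBy_iff]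
    constructor
    · rintro ⟨g, rfl⟩
      refine ⟨⟨g, g.2.1, hfa g⟩, ?_⟩
      obtain ⟨-, α, hα, he⟩ := g.2
      have : f g = α := MulEquiv.ext fun x => Subtype.ext ((hfa g x).trans (he x).symm)
      rw [this]
      exact hα
    · rintro ⟨⟨g, hg, h⟩, hK⟩
      refine ⟨⟨g, hg, α, hK, h⟩, ?_⟩
      exact MulEquiv.ext fun x => Subtype.ext ((hfa _ x).trans (h x).symm)
  have hker : f.ker = (centralizerIn S Q).subgroupOf (kNorm S Q K) := by
    ext g
    rw [MonoidHom.mem_ker, Subgroup.mem_subgroupOf]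
    constructor
    · intro h
      refine ⟨g.2.1, Subgroup.mem_centralizer_iff.2 fun x hx => ?_⟩
      have h1 : ((f g ⟨x, hx⟩ : Q) : Ω) = x := by rw [h]; rfl
      rw [hfa] at h1
      calc x * (g : Ω) = (g * x * (g : Ω)⁻¹) * g := by rw [h1]
        _ = g * x := by group
    · intro h
      apply MulEquiv.ext
      intro x
      apply Subtype.ext
      rw [hfa, ← Subgroup.mem_centralizer_iff.1 h.2 x x.2]
      simp
  have h1 : Nat.card f.range * Nat.card f.ker = Nat.card (kNorm S Q K) := by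
    rw [← Nat.card_congr (QuotientGroup.quotientKerEquivRange f).toEquiv]
    rw [Subgroup.card_eq_card_quotient_mul_card_subgroup f.ker]
  rw [hrange, hker] at h1
  rw [← h1]
  congr 1
  exact (Nat.card_congr (Subgroup.subgroupOfEquivOfLe
    (centralizerIn_le_kNorm S Q K)).toEquiv).symm

theorem isPGroup_autInducedBy_inf (hS : IsPGroup p S) (Q : Subgroup Ω) (K : Subgroup (MulAut Q)) :
    IsPGroup p (autInducedBy S Q ⊓ K : Subgroup (MulAut Q)) :=
  (isPGroup_autInducedBy hS Q).to_le inf_le_left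

/-- **Extension lemma**: for `(Q, K)` good and `φ : P → Q` an isomorphism of the system, after composing `φ`
with an element of `Aut_F(Q) ∩ K` it extends to `P N_S^{K'}(P)`, where `K'` is carried into `K` by `φ`. -/
theorem exists_extension_kNorm [Fact p.Prime] [Finite S] (hS : IsPGroup p S)
    {F : FusionSystem S} {Q : Subgroup Ω} {K : Subgroup (MulAut Q)} (hgood : GoodK p F Q K)
    {P : Subgroup Ω} {φ : P →* Ω} (hφ : φ ∈ F.Hom P) (hφQ : φ.range = Q)
    (K' : Subgroup (MulAut P)) (hK' : ∀ α ∈ K', tr hφ hφQ α ∈ K) :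
    ∃ χ ∈ F.autGroup Q ⊓ K, ∃ ψ ∈ F.Hom (P ⊔ kNorm S P K'),
      ∀ (x : P) (h : φ x ∈ Q), ψ (Subgroup.inclusion le_sup_left x) = (χ ⟨φ x, h⟩ : Q) := by
  have hPS := hom_le hφ
  have hQS := hgood.1.1
  have hfinQ : Finite Q := finite_of_le hQS
  set B := (autInducedBy S P ⊓ K').map (tr hφ hφQ).toMonoidHom with hB
  have hBle : B ≤ F.autGroup Q ⊓ K := by
    rintro _ ⟨α, hα, rfl⟩
    exact ⟨tr_mem_autGroup hφ hφQ (autInducedBy_le_autGroup F hPS hα.1), hK' α hα.2⟩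
  have hBp : IsPGroup p B := (isPGroup_autInducedBy_inf hS P K').map _
  obtain ⟨χ, hχ, hχB⟩ := hgood.2.exists_conj hBle hBp
  have hφm : ∀ x : P, φ x ∈ Q := fun x => hφQ.le ⟨x, rfl⟩
  obtain ⟨φ', hφ', hφ'e⟩ := exists_comp hφ ((mem_autGroup_iff F hQS χ).1 hχ.1) hφm
  have hφ'x : ∀ x : P, φ' x = (χ ⟨φ x, hφm x⟩ : Q) := fun x => hφ'e x
  have hφ'r : φ'.range = Q := by
    have hfinP : Finite P := finite_of_le hPS
    have hle : φ'.range ≤ Q := by
      rintro _ ⟨x, rfl⟩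
      rw [hφ'x]
      exact (χ _).2
    refine Subgroup.eq_of_le_of_card_ge hle ?_
    rw [← isConj_card_eq (isConj_range hφ'), isConj_card_eq (⟨φ, hφ, hφQ⟩ : F.IsConj P Q)]
  have hle : P ⊔ kNorm S P K' ≤ extender S P φ' := by
    refine sup_le (le_extender hPS (hom_apply_mem hφ')) ?_
    rintro g ⟨hg, α, hα, hαe⟩
    rw [mem_extender_iff]
    refine ⟨hg, mem_normalizer_of_aut hαe, ?_⟩
    have hαS : α ∈ autInducedBy S P := (mem_autInducedBy_iff S P α).2 ⟨g, hg, hαe⟩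
    obtain ⟨k, hk, hke⟩ := (mem_autInducedBy_iff S Q _).1
      (hχB (tr hφ hφQ α) ⟨α, ⟨hαS, hα⟩, rfl⟩).1
    refine ⟨k, hk, fun x hx => ?_⟩
    have h1 := hke (χ ⟨φ x, hφm x⟩)
    rw [MulAut.mul_apply, MulAut.mul_apply] at h1
    have h2 : χ⁻¹ (χ ⟨φ x, hφm x⟩) = (⟨φ x, hφm x⟩ : Q) := χ.symm_apply_apply _
    rw [h2] at h1
    rw [hφ'x, hφ'x, ← h1]
    congr 2
    apply Subtype.ext
    rw [tr_apply]
    show φ _ = φ (α x)
    congr 1
    exact Subtype.ext (hαe x).symm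
  obtain ⟨ψ, hψ, hψe⟩ := hgood.1.2 P φ' hφ' hφ'r
  refine ⟨χ, hχ, _, restrict_mem hψ hle, fun x h => ?_⟩
  rw [← hφ'x]
  exact hψe x x.2 _

/-- Numerical criterion: a pair mapping to a good pair, with at least as large `K`-normalizer, is good. -/
theorem goodK_of_card [Fact p.Prime] [Finite S] (hS : IsPGroup p S)
    {F : FusionSystem S} (hF : F.IsSaturated p) {R R' : Subgroup Ω} {K : Subgroup (MulAut R)}
    {K' : Subgroup (MulAut R')} {ρ : R →* Ω} (hρ : ρ ∈ F.Hom R) (hρr : ρ.range = R')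
    (hK : ∀ α ∈ K, tr hρ hρr α ∈ K') (hgood : GoodK p F R' K')
    (hcard : Nat.card (kNorm S R' K') ≤ Nat.card (kNorm S R K)) : GoodK p F R K := by
  have hRS := hom_le hρ
  have hR'S := hgood.1.1
  have hfinR : Finite R := finite_of_le hRS
  have hfinR' : Finite R' := finite_of_le hR'S
  have hp : p.Prime := Fact.out
  have hRR' : F.IsConj R R' := ⟨ρ, hρ, hρr⟩
  have hfc' := isFullyCentralized_of_isReceptive hgood.1
  have hC : Nat.card (centralizerIn S R) ≤ Nat.card (centralizerIn S R') :=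
    hfc'.2 R (isConj_symm hRR')
  -- orders
  have h1 : Nat.card (autInducedBy S R ⊓ K : Subgroup (MulAut R)) ≤
      p ^ (Nat.card (F.autGroup R ⊓ K : Subgroup (MulAut R))).factorization p :=
    card_le_of_isPGroup (inf_le_inf_right _ (autInducedBy_le_autGroup F hRS))
      (isPGroup_autInducedBy_inf hS R K)
  have h2 : (Nat.card (F.autGroup R ⊓ K : Subgroup (MulAut R))).factorization p ≤
      (Nat.card (F.autGroup R' ⊓ K' : Subgroup (MulAut R'))).factorization p := by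
    have hdvd : Nat.card (F.autGroup R ⊓ K : Subgroup (MulAut R)) ∣
        Nat.card (F.autGroup R' ⊓ K' : Subgroup (MulAut R')) := by
      have h3 : Nat.card (F.autGroup R ⊓ K : Subgroup (MulAut R)) =
          Nat.card ((F.autGroup R ⊓ K).map (tr hρ hρr).toMonoidHom) :=
        Nat.card_congr ((F.autGroup R ⊓ K).equivMapOfInjective _
          (tr hρ hρr).injective).toEquiv
      rw [h3]
      apply Subgroup.card_dvd_of_le
      rintro _ ⟨α, hα, rfl⟩
      exact ⟨tr_mem_autGroup hρ hρr hα.1, hK α hα.2⟩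
    exact (Nat.factorization_le_iff_dvd Nat.card_pos.ne' Nat.card_pos.ne').2 hdvd p
  have h3 : p ^ (Nat.card (F.autGroup R ⊓ K : Subgroup (MulAut R))).factorization p ≤
      Nat.card (autInducedBy S R' ⊓ K' : Subgroup (MulAut R')) := by
    rw [hgood.2.2]
    exact Nat.pow_le_pow_right hp.pos h2
  rw [← card_kNorm, ← card_kNorm] at hcard
  have hfinC : Finite (centralizerIn S R) := finite_of_le inf_le_left
  have hfinC' : Finite (centralizerIn S R') := finite_of_le inf_le_left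
  have hposC : 0 < Nat.card (centralizerIn S R) := Nat.card_pos
  have hposC' : 0 < Nat.card (centralizerIn S R') := Nat.card_pos
  have hposA : 0 < Nat.card (autInducedBy S R ⊓ K : Subgroup (MulAut R)) := Nat.card_pos
  have hposA' : 0 < Nat.card (autInducedBy S R' ⊓ K' : Subgroup (MulAut R')) := Nat.card_pos
  have h4 : Nat.card (autInducedBy S R' ⊓ K' : Subgroup (MulAut R')) ≤
      Nat.card (autInducedBy S R ⊓ K : Subgroup (MulAut R)) := by
    by_contra hlt
    push Not at hlt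
    have := Nat.mul_lt_mul_of_lt_of_le hlt hC hposC'
    omega
  have h5 : Nat.card (centralizerIn S R') ≤ Nat.card (centralizerIn S R) := by
    by_contra hlt
    push Not at hlt
    have := Nat.mul_lt_mul_of_le_of_lt (h1.trans h3) hlt hposA'
    omega
  refine ⟨isReceptive_of_isFullyCentralized hS hF ⟨hRS, fun Q hQ => ?_⟩,
    inf_le_inf_right _ (autInducedBy_le_autGroup F hRS), le_antisymm h1 (h3.trans h4)⟩
  exact (hfc'.2 Q (isConj_trans (isConj_symm hRR') hQ)).trans h5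

/-- `IsFullyAutomized` in terms of `SylIn`. -/
theorem sylIn_of_isFullyAutomized [Fact p.Prime] [Finite S] (hS : IsPGroup p S)
    {F : FusionSystem S} {Q : Subgroup Ω} (hQ : F.IsFullyAutomized p Q) :
    SylIn p (autInducedBy S Q) (F.autGroup Q) :=
  ⟨autInducedBy_le_autGroup F hQ.1, (isFullyAutomized_iff_card hS hQ.1).1 hQ⟩

theorem isFullyAutomized_of_sylIn [Fact p.Prime] [Finite S] (hS : IsPGroup p S)
    {F : FusionSystem S} {Q : Subgroup Ω} (hQS : Q ≤ S)
    (hQ : SylIn p (autInducedBy S Q) (F.autGroup Q)) : F.IsFullyAutomized p Q :=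
  (isFullyAutomized_iff_card hS hQS).2 hQ.2

/-- Existence of good pairs conjugate to a given pair. -/
theorem exists_goodK [Fact p.Prime] [Finite S] (hS : IsPGroup p S)
    {F : FusionSystem S} (hF : F.IsSaturated p) {R : Subgroup Ω} (hR : R ≤ S)
    (K : Subgroup (MulAut R)) :
    ∃ (R' : Subgroup Ω) (φ : R →* Ω) (hφ : φ ∈ F.Hom R) (hr : φ.range = R'),
      GoodK p F R' (K.map (tr hφ hr).toMonoidHom) := by
  obtain ⟨R', ⟨φ₀, hφ₀, hr₀⟩, hfn⟩ := exists_isFullyNormalized hS hF hR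
  have hR'S := hfn.1
  have hfinR' : Finite R' := finite_of_le hR'S
  obtain ⟨T, -, hT⟩ := exists_sylIn (p := p) (B := (⊥ : Subgroup (MulAut R')))
    (K := F.autGroup R' ⊓ K.map (tr hφ₀ hr₀).toMonoidHom) bot_le IsPGroup.of_bot
  have hsyl := sylIn_of_isFullyAutomized hS (isFullyAutomized_of_isFullyNormalized hS hF hfn)
  obtain ⟨χ, hχ, hχT⟩ := hsyl.exists_conj (hT.le.trans inf_le_left) hT.isPGroup
  have hφ₀m : ∀ x : R, φ₀ x ∈ R' := fun x => hr₀.le ⟨x, rfl⟩
  obtain ⟨φ, hφ, hφe⟩ := exists_comp hφ₀ ((mem_autGroup_iff F hR'S χ).1 hχ) hφ₀m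
  have hφx : ∀ x : R, φ x = (χ ⟨φ₀ x, hφ₀m x⟩ : R') := fun x => hφe x
  have hr : φ.range = R' := by
    have hle : φ.range ≤ R' := by
      rintro _ ⟨x, rfl⟩
      rw [hφx]
      exact (χ _).2
    refine Subgroup.eq_of_le_of_card_ge hle ?_
    rw [← isConj_card_eq (isConj_range hφ), isConj_card_eq (⟨φ₀, hφ₀, hr₀⟩ : F.IsConj R R')]
  have htr : ∀ α : MulAut R, tr hφ hr α = χ * tr hφ₀ hr₀ α * χ⁻¹ := by
    intro α
    apply tr_eq_of_apply
    intro x hx
    rw [MulAut.mul_apply, MulAut.mul_apply]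
    have h1 : (⟨φ x, hx⟩ : R') = χ ⟨φ₀ x, hφ₀m x⟩ := Subtype.ext (hφx x)
    have h2 : χ⁻¹ (χ ⟨φ₀ x, hφ₀m x⟩) = (⟨φ₀ x, hφ₀m x⟩ : R') := χ.symm_apply_apply _
    rw [h1, h2, hφx]
    congr 2
    apply Subtype.ext
    rw [tr_apply]
  refine ⟨R', φ, hφ, hr, isReceptive_of_isFullyNormalized hS hF hfn, ?_⟩
  -- T' = χ T χ⁻¹ is Sylow in Aut_F ∩ K₁
  have hmap : (F.autGroup R' ⊓ K.map (tr hφ₀ hr₀).toMonoidHom).map (MulAut.conj χ).toMonoidHom =
      F.autGroup R' ⊓ K.map (tr hφ hr).toMonoidHom := by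
    ext β
    constructor
    · rintro ⟨γ, ⟨hγ1, α, hα, rfl⟩, rfl⟩
      refine ⟨Subgroup.mul_mem _ (Subgroup.mul_mem _ hχ hγ1) (Subgroup.inv_mem _ hχ), α, hα, ?_⟩
      exact htr α
    · rintro ⟨hβ1, α, hα, rfl⟩
      have h1 : (tr hφ hr).toMonoidHom α = χ * tr hφ₀ hr₀ α * χ⁻¹ := htr α
      rw [h1] at hβ1 ⊢
      refine ⟨tr hφ₀ hr₀ α, ⟨?_, α, hα, rfl⟩, rfl⟩
      have h2 := Subgroup.mul_mem _ (Subgroup.mul_mem _ (Subgroup.inv_mem _ hχ) hβ1) hχ
      have h3 : χ⁻¹ * (χ * tr hφ₀ hr₀ α * χ⁻¹) * χ = tr hφ₀ hr₀ α := by group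
      rwa [h3] at h2
  have hT' := hT.map_conj χ
  rw [hmap] at hT'
  have hle1 : T.map (MulAut.conj χ).toMonoidHom ≤
      autInducedBy S R' ⊓ K.map (tr hφ hr).toMonoidHom := by
    refine le_inf ?_ (hT'.le.trans inf_le_right)
    rintro _ ⟨t, ht, rfl⟩
    exact hχT t ht
  have heq : autInducedBy S R' ⊓ K.map (tr hφ hr).toMonoidHom =
      T.map (MulAut.conj χ).toMonoidHom :=
    hT'.eq_of_le (inf_le_inf_right _ (autInducedBy_le_autGroup F hR'S))
      (isPGroup_autInducedBy_inf hS _ _) hle1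
  rw [heq]
  exact hT'

/-- A fully normalized subgroup gives a good pair with `K = Aut(Q)`. -/
theorem goodK_top [Fact p.Prime] [Finite S] (hS : IsPGroup p S)
    {F : FusionSystem S} (hF : F.IsSaturated p) {Q : Subgroup Ω} (hQ : F.IsFullyNormalized Q) :
    GoodK p F Q ⊤ := by
  refine ⟨isReceptive_of_isFullyNormalized hS hF hQ, ?_⟩
  rw [inf_top_eq, inf_top_eq]
  exact sylIn_of_isFullyAutomized hS (isFullyAutomized_of_isFullyNormalized hS hF hQ)

/-- A fully centralized subgroup gives a good pair for every `K ≤ Aut_S(Q)`. -/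
theorem goodK_of_le [Fact p.Prime] [Finite S] (hS : IsPGroup p S)
    {F : FusionSystem S} (hF : F.IsSaturated p) {Q : Subgroup Ω} (hQ : F.IsFullyCentralized Q)
    {K : Subgroup (MulAut Q)} (hK : K ≤ autInducedBy S Q) : GoodK p F Q K := by
  refine ⟨isReceptive_of_isFullyCentralized hS hF hQ, ?_⟩
  have hfinQ : Finite Q := finite_of_le hQ.1
  rw [inf_eq_right.2 hK, inf_eq_right.2 (hK.trans (autInducedBy_le_autGroup F hQ.1))]
  have hKp : IsPGroup p K := (isPGroup_autInducedBy hS Q).to_le hK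
  exact sylIn_of_card_ge le_rfl hKp (Nat.le_of_dvd Nat.card_pos (Nat.ordProj_dvd _ p))

end Cfsg.Agent.H802
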