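import Cfsg.Agent.H802.FusEss
set_option linter.all false

/-!
# Essential classes cannot be left out of Alperin's theorem (helper802)
-/

set_option autoImplicit false

namespace Cfsg.Agent.H802

open Cfsg Cfsg.FusionSystem

variable {Ω : Type*} [Group Ω] {S : Subgroup Ω}

/-- Isomorphisms `P → Q` of the system which extend to `N_S(P)`. -/
def Nice (F : FusionSystem S) (Q P : Subgroup Ω) : Set (P →* Ω) :=
  {γ | γ ∈ F.Hom P ∧ γ.range = Q ∧ ∃ ψ ∈ F.Hom (normalizerIn S P),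
    ∀ (x : Ω) (hx : x ∈ P) (hx' : x ∈ normalizerIn S P), ψ ⟨x, hx'⟩ = γ ⟨x, hx⟩}

/-- Good maps: in coordinates given by nice maps, they are elements of `D`. -/
def Good (F : FusionSystem S) (Q : Subgroup Ω) (D : Subgroup (MulAut Q)) (P : Subgroup Ω)
    (φ : P →* Ω) : Prop :=
  ∀ P' : Subgroup Ω, φ.range = P' → ∀ γ₁ ∈ Nice F Q P, ∀ γ₂ ∈ Nice F Q P',
    ∃ d ∈ D, ∀ (x : P) (h : φ x ∈ P') (h' : γ₁ x ∈ Q), γ₂ ⟨φ x, h⟩ = (d ⟨γ₁ x, h'⟩ : Q)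

theorem exists_nice {p : ℕ} [Fact p.Prime] [Finite S] (hS : IsPGroup p S)
    {F : FusionSystem S} (hF : F.IsSaturated p) {Q P : Subgroup Ω} (hQ : F.IsFullyNormalized Q)
    (hPQ : F.IsConj P Q) : ∃ γ, γ ∈ Nice F Q P := by
  obtain ⟨φ, hφ, hφr⟩ := hPQ
  obtain ⟨β, hβ, ψ, hψ, he, -⟩ := exists_extension_normalizer hS hF hφ hφr hQ
  have hPS := hom_le hφ
  have hPN := le_normalizerIn hPS
  have hφm : ∀ x : P, φ x ∈ Q := fun x => hφr.le ⟨x, rfl⟩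
  refine ⟨ψ.comp (Subgroup.inclusion hPN), restrict_mem hψ hPN, ?_, ψ, hψ, fun x hx hx' => rfl⟩
  have hfinQ : Finite Q := finite_of_le hQ.1
  have hle : (ψ.comp (Subgroup.inclusion hPN)).range ≤ Q := by
    rintro _ ⟨x, rfl⟩
    show ψ ⟨x, hPN x.2⟩ ∈ Q
    rw [he x (hφm x)]
    exact (β _).2
  refine Subgroup.eq_of_le_of_card_ge hle ?_
  rw [← isConj_card_eq (isConj_range (restrict_mem hψ hPN)),
    isConj_card_eq (⟨φ, hφ, hφr⟩ : F.IsConj P Q)]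

theorem subtype_nice (F : FusionSystem S) {Q : Subgroup Ω} (hQ : Q ≤ S) :
    Q.subtype ∈ Nice F Q Q :=
  ⟨subtype_mem F hQ, Subgroup.range_subtype Q, _, subtype_mem F inf_le_left, fun _ _ _ => rfl⟩

/-- Key lemma: a map which extends to a larger subgroup becomes, in nice coordinates, an automorphism of `Q`
that extends. -/
theorem good_of_extends {p : ℕ} [Fact p.Prime] [Finite S] (hS : IsPGroup p S)
    {F : FusionSystem S} {Q P : Subgroup Ω} {φ : P →* Ω}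
    {R : Subgroup Ω} (hPR : P ≤ R) (hcard : Nat.card P < Nat.card R)
    {ψ : R →* Ω} (hψ : ψ ∈ F.Hom R) (he : ∀ (x : Ω) (hx : x ∈ P), ψ ⟨x, hPR hx⟩ = φ ⟨x, hx⟩)
    {D : Subgroup (MulAut Q)} (hD : ∀ α ∈ F.autGroup Q, Extends F Q α → α ∈ D) :
    Good F Q D P φ := by
  rintro P' hφP' γ₁ ⟨hγ₁, hγ₁r, Γ₁, hΓ₁, hΓ₁e⟩ γ₂ ⟨hγ₂, hγ₂r, Γ₂, hΓ₂, hΓ₂e⟩
  have hRS := hom_le hψ
  have hPS : P ≤ S := hPR.trans hRS
  have hφ : φ ∈ F.Hom P := mem_of_agree hψ hPR (fun x hx => (he x hx).symm)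
  have hP'S : P' ≤ S := hφP' ▸ range_le_of_mem hφ
  have hfinR : Finite R := finite_of_le hRS
  -- N = N_R(P)
  have hneR : P ≠ R := by
    rintro rfl
    exact lt_irrefl _ hcard
  set N := R ⊓ Subgroup.normalizer (P : Set Ω) with hN
  have hPN : P < N := lt_inf_normalizer hS hPR hRS hneR
  have hNR : N ≤ R := inf_le_left
  have hfinN : Finite N := finite_of_le (hNR.trans hRS)
  have hcardN : Nat.card P < Nat.card N := by
    refine lt_of_le_of_ne (Nat.card_mono (Set.toFinite _) hPN.le) fun heq => ?_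
    exact hPN.ne (Subgroup.eq_of_le_of_card_ge hPN.le heq.ge)
  have hNN : N ≤ normalizerIn S P := inf_le_inf_right _ hRS
  -- Γ₁ restricted to N, with image N₁
  set g₁ := Γ₁.comp (Subgroup.inclusion hNN) with hg₁
  have hg₁F : g₁ ∈ F.Hom N := restrict_mem hΓ₁ hNN
  obtain ⟨δ, hδ, hδr, hδ1, hδ2⟩ := exists_inv (Q := g₁.range) hg₁F rfl
  -- Q ≤ N₁
  have hγ₁m : ∀ x : P, γ₁ x ∈ Q := fun x => hγ₁r.le ⟨x, rfl⟩
  have hγ₂m : ∀ x : P', γ₂ x ∈ Q := fun x => hγ₂r.le ⟨x, rfl⟩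
  have hg₁γ : ∀ (x : Ω) (hx : x ∈ P), g₁ ⟨x, hPN.le hx⟩ = γ₁ ⟨x, hx⟩ :=
    fun x hx => hΓ₁e x hx _
  have hQN₁ : Q ≤ g₁.range := by
    rw [← hγ₁r]
    rintro _ ⟨x, rfl⟩
    exact ⟨⟨x, hPN.le x.2⟩, hg₁γ x x.2⟩
  have hδN : ∀ y : g₁.range, δ y ∈ N := fun y => hδr.le ⟨y, rfl⟩
  -- ψ on N with values in N_S(P')
  have hψN : ∀ y : N, (ψ.comp (Subgroup.inclusion hNR)) y ∈ normalizerIn S P' := fun y =>
    apply_mem_normalizerIn (P := P) (Q := P') (φ := φ) (restrict_mem hψ hNR) hPN.le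
      inf_le_right hφP' (fun x hx => he x hx) y
  obtain ⟨a, ha, hae⟩ := exists_comp hδ (restrict_mem hψ hNR) hδN
  have ham : ∀ y, a y ∈ normalizerIn S P' := fun y => by
    rw [hae]
    exact hψN _
  obtain ⟨b, hb, hbe⟩ := exists_comp ha hΓ₂ ham
  -- b on Q is an automorphism of Q
  have hφm : ∀ x : P, φ x ∈ P' := fun x => hφP'.le ⟨x, rfl⟩
  have hbQ : ∀ (x : P), b ⟨γ₁ x, hQN₁ (hγ₁m x)⟩ = γ₂ ⟨φ x, hφm x⟩ := by
    intro x
    rw [hbe]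
    have e1 : δ ⟨γ₁ x, hQN₁ (hγ₁m x)⟩ = x := by
      have e2 : (⟨γ₁ x, hQN₁ (hγ₁m x)⟩ : g₁.range) = ⟨g₁ ⟨x, hPN.le x.2⟩, ⟨_, rfl⟩⟩ :=
        Subtype.ext (hg₁γ x x.2).symm
      rw [e2]
      exact hδ1 _ _
    have e3 : a ⟨γ₁ x, hQN₁ (hγ₁m x)⟩ = φ x := by
      rw [hae]
      have e4 : (⟨δ ⟨γ₁ x, hQN₁ (hγ₁m x)⟩, hδN _⟩ : N) = ⟨x, hPN.le x.2⟩ := Subtype.ext e1
      rw [e4]
      exact he x x.2
    have e5 : (⟨a ⟨γ₁ x, hQN₁ (hγ₁m x)⟩, ham _⟩ : normalizerIn S P') =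
        ⟨φ x, le_normalizerIn hP'S (hφm x)⟩ := Subtype.ext e3
    rw [e5]
    exact hΓ₂e _ _ _
  have hQS : Q ≤ S := hγ₁r ▸ range_le_of_mem hγ₁
  have hfinQ : Finite Q := finite_of_le hQS
  have hbr := restrict_mem hb hQN₁
  have hbrm : ∀ y : Q, (b.comp (Subgroup.inclusion hQN₁)) y ∈ Q := by
    intro y
    obtain ⟨x, hx⟩ := hγ₁r.ge y.2
    have e1 : y = ⟨γ₁ x, hγ₁m x⟩ := Subtype.ext hx.symm
    rw [e1]
    show b ⟨γ₁ x, _⟩ ∈ Q
    rw [hbQ x]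
    exact hγ₂m _
  obtain ⟨d, hd, hde⟩ := exists_aut hbr (range_eq_of_mapsTo hbr hbrm)
  refine ⟨d, hD d hd ⟨g₁.range, hQN₁, ?_, b, hb, fun x => (hde x).symm⟩, ?_⟩
  · have h1 : Nat.card Q = Nat.card P := by
      rw [← isConj_card_eq (⟨γ₁, hγ₁, hγ₁r⟩ : F.IsConj P Q)]
    rw [h1, ← isConj_card_eq (isConj_range hg₁F)]
    exact hcardN
  · intro x h h'
    rw [hde]
    exact (hbQ x).symm

/-- The fusion system obtained from `F` by keeping, on the subgroups conjugate to `Q`, only the good maps. -/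
noncomputable def dropSystem {p : ℕ} [Fact p.Prime] [Finite S] (hS : IsPGroup p S)
    {F : FusionSystem S} (hF : F.IsSaturated p) {Q : Subgroup Ω} (hQ : F.IsFullyNormalized Q)
    (hne : Q ≠ S) (D : Subgroup (MulAut Q))
    (hD : ∀ α ∈ F.autGroup Q, Extends F Q α → α ∈ D) : FusionSystem S where
  Hom P := {φ | φ ∈ F.Hom P ∧ (F.IsConj Q P → Good F Q D P φ)}
  le_of_mem h := F.le_of_mem h.1
  injective_of_mem h := F.injective_of_mem h.1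
  conj_mem := by
    intro P g hP hg
    refine ⟨F.conj_mem hP hg, fun hc => ?_⟩
    have hPne : P ≠ S := by
      rintro rfl
      apply hne
      have hfin : Finite P := ‹_›
      exact Subgroup.eq_of_le_of_card_ge (isConj_le_left hc) (isConj_card_eq hc).ge
    exact good_of_extends hS (le_normalizerIn hP) (card_lt_card_normalizerIn hS hP hPne)
      (F.conj_mem (inf_le_left : normalizerIn S P ≤ S) hg) (fun x hx => rfl) hD
  comp_mem := by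
    rintro P R φ ψ ⟨hφ, hφg⟩ ⟨hψ, hψg⟩ h
    refine ⟨F.comp_mem hφ hψ h, fun hc => ?_⟩
    intro P' hP' γ₁ hγ₁ γ₂ hγ₂
    have hc1 : F.IsConj Q φ.range := isConj_trans hc (isConj_range hφ)
    obtain ⟨γ, hγ⟩ := exists_nice hS hF hQ (isConj_symm hc1)
    obtain ⟨d₁, hd₁, hd₁e⟩ := hφg hc φ.range rfl γ₁ hγ₁ γ hγ
    have hle : φ.range ≤ R := by
      rintro _ ⟨x, rfl⟩
      exact h x
    have hRS := hom_le hψ
    have hfinR : Finite R := finite_of_le hRS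
    -- ψ restricted to φ.range is good
    have hgood : Good F Q D φ.range (ψ.comp (Subgroup.inclusion hle)) := by
      rcases (Nat.card_mono (Set.toFinite (R : Set Ω)) hle).lt_or_eq with hlt | heq
      · exact good_of_extends hS hle hlt hψ (fun x hx => rfl) hD
      · have hR : φ.range = R := Subgroup.eq_of_le_of_card_ge hle heq.ge
        subst hR
        exact hψg hc1
    have hr : (ψ.comp (Subgroup.inclusion hle)).range = P' := by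
      rw [← hP']
      ext z
      constructor
      · rintro ⟨⟨_, x, rfl⟩, rfl⟩
        exact ⟨x, rfl⟩
      · rintro ⟨x, rfl⟩
        exact ⟨⟨φ x, ⟨x, rfl⟩⟩, rfl⟩
    obtain ⟨d₂, hd₂, hd₂e⟩ := hgood P' hr γ hγ γ₂ hγ₂
    refine ⟨d₂ * d₁, D.mul_mem hd₂ hd₁, fun x hx h' => ?_⟩
    have hγm : γ ⟨φ x, ⟨x, rfl⟩⟩ ∈ Q := hγ.2.1.le ⟨_, rfl⟩
    have e1 := hd₂e ⟨φ x, ⟨x, rfl⟩⟩ hx hγm
    have e2 := hd₁e x ⟨x, rfl⟩ h'
    rw [MulAut.mul_apply]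
    have e3 : (⟨γ ⟨φ x, ⟨x, rfl⟩⟩, hγm⟩ : Q) = d₁ ⟨γ₁ x, h'⟩ := Subtype.ext e2
    rw [← e3]
    exact e1
  inv_mem := by
    rintro P φ ⟨hφ, hφg⟩
    obtain ⟨ψ, hψ, hψr, hψ1, hψ2⟩ := exists_inv (Q := φ.range) hφ rfl
    refine ⟨ψ, ⟨hψ, fun hc => ?_⟩, fun x => hψ1 x _⟩
    have hcP : F.IsConj Q P := isConj_trans hc (isConj_symm (isConj_range hφ))
    rintro P' hP' γ₁ hγ₁ γ₂ hγ₂
    have hPP' : P = P' := hψr.symm.trans hP'
    subst hPP'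
    obtain ⟨d, hd, hde⟩ := hφg hcP φ.range rfl γ₂ hγ₂ γ₁ hγ₁
    refine ⟨d⁻¹, D.inv_mem hd, fun y hy h' => ?_⟩
    obtain ⟨_, x, rfl⟩ := y
    have e1 : ψ ⟨φ x, ⟨x, rfl⟩⟩ = x := hψ1 x _
    have hγ₂m : γ₂ x ∈ Q := hγ₂.2.1.le ⟨_, rfl⟩
    have e2 := hde x ⟨x, rfl⟩ hγ₂m
    have e3 : (⟨γ₁ ⟨φ x, ⟨x, rfl⟩⟩, h'⟩ : Q) = d ⟨γ₂ x, hγ₂m⟩ := Subtype.ext e2
    have e4 : (⟨ψ ⟨φ x, ⟨x, rfl⟩⟩, hy⟩ : P) = x := Subtype.ext e1
    rw [e4]
    show γ₂ x = ((d⁻¹ ⟨γ₁ ⟨φ x, ⟨x, rfl⟩⟩, h'⟩ : Q) : Ω)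
    rw [e3]
    have e5 : d⁻¹ (d ⟨γ₂ x, hγ₂m⟩) = ⟨γ₂ x, hγ₂m⟩ := d.symm_apply_apply _
    rw [e5]

/-- An essential class cannot be left out of a conjugation family. -/
theorem exists_system_without_essential {p : ℕ} [Fact p.Prime] [Finite S] (hS : IsPGroup p S)
    {F : FusionSystem S} (hF : F.IsSaturated p) {Q : Subgroup Ω} (hQ : F.IsEssential p Q) :
    ∃ E : FusionSystem S, (∀ R : Subgroup Ω, ¬ F.IsConj Q R → E.Hom R = F.Hom R) ∧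
      ¬ F.autGroup Q ≤ E.autGroup Q := by
  obtain ⟨D, hDA, hDne, hD⟩ := exists_proper_of_isEssential hS hF hQ
  have hne := ne_of_isEssential hS hF hQ
  have hQn := hQ.2.1
  refine ⟨dropSystem hS hF hQn hne D hD, fun R hR => ?_, fun hle => ?_⟩
  · ext φ
    exact ⟨fun h => h.1, fun h => ⟨h, fun hc => absurd hc hR⟩⟩
  · apply hDne
    refine le_antisymm hDA fun α hα => ?_
    have h1 := (mem_autGroup_iff _ hQn.1 α).1 (hle hα)
    obtain ⟨d, hd, hde⟩ := h1.2 (isConj_refl F hQn.1) Q (by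
      ext z
      constructor
      · rintro ⟨x, rfl⟩
        exact (α x).2
      · intro hz
        exact ⟨α.symm ⟨z, hz⟩, by
          show ((α (α.symm ⟨z, hz⟩) : Q) : Ω) = z
          rw [MulEquiv.apply_symm_apply]⟩) _ (subtype_nice F hQn.1) _ (subtype_nice F hQn.1)
    have : α = d := MulEquiv.ext fun x => Subtype.ext (hde x (α x).2 x.2)
    rw [this]
    exact hd

/-- The system obtained from `F` by keeping on `S` only the inner automorphisms. -/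
def dropTop [Finite S] (F : FusionSystem S) : FusionSystem S where
  Hom P := {φ | φ ∈ F.Hom P ∧ (P = S → ∃ g ∈ S, ∀ x : P, φ x = g * x * g⁻¹)}
  le_of_mem h := F.le_of_mem h.1
  injective_of_mem h := F.injective_of_mem h.1
  conj_mem := by
    intro P g hP hg
    exact ⟨F.conj_mem hP hg, fun _ => ⟨g, hg, fun x => rfl⟩⟩
  comp_mem := by
    rintro P R φ ψ ⟨hφ, hφg⟩ ⟨hψ, hψg⟩ h
    refine ⟨F.comp_mem hφ hψ h, ?_⟩
    rintro rfl
    obtain ⟨g, hg, hge⟩ := hφg rfl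
    have hRP : R = P := by
      refine le_antisymm (hom_le hψ) ?_
      have hr : φ.range = P := range_eq_of_mapsTo hφ (hom_apply_mem hφ)
      rw [← hr]
      rintro _ ⟨x, rfl⟩
      exact h x
    obtain ⟨k, hk, hke⟩ := hψg hRP
    refine ⟨k * g, P.mul_mem hk hg, fun x => ?_⟩
    show ψ ⟨φ x, h x⟩ = _
    rw [hke]
    show k * φ x * k⁻¹ = _
    rw [hge]
    group
  inv_mem := by
    rintro P φ ⟨hφ, hφg⟩
    obtain ⟨ψ, hψ, hψr, hψ1, hψ2⟩ := exists_inv (Q := φ.range) hφ rfl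
    refine ⟨ψ, ⟨hψ, fun hr => ?_⟩, fun x => hψ1 x _⟩
    have hPS : P = S := by
      have hfin : Finite S := ‹_›
      refine Subgroup.eq_of_le_of_card_ge (hom_le hφ) ?_
      rw [isConj_card_eq (isConj_range hφ), hr]
    obtain ⟨g, hg, hge⟩ := hφg hPS
    refine ⟨g⁻¹, S.inv_mem hg, ?_⟩
    rintro ⟨_, x, rfl⟩
    show ψ ⟨φ x, ⟨x, rfl⟩⟩ = g⁻¹ * φ x * g⁻¹⁻¹
    refine (hψ1 x _).trans ?_
    rw [hge]
    group

end Cfsg.Agent.H802
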